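import Cfsg.Agent.Lib.PSL2.Centralizers
import Cfsg.Agent.Lib.PSL2.Borel
import Cfsg.Agent.Lib.PSL2.Existence
import Cfsg.Agent.Lib.PSL2.Overgroups
import Cfsg.Agent.Lib.PSL2.Soluble
import Cfsg.Agent.Lib.CAEven.Classify

/-!
# Facts about `PSL(2, q)` for the minimal non-CA groups

* `two_part` : the order for `q ≡ 3, 5 mod 8`
* `exists_not_selfnorm` : centralisers of elements of odd order are not self-normalising
* `even_sylow` : `q` even
* `exists_nonabelian_centralizer` : `q` odd, at least seven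
-/

set_option autoImplicit false
set_option linter.style.haveILetI false
set_option linter.unusedSectionVars false

namespace Cfsg.Agent.MinNonCA

open Subgroup MulAction Matrix Cfsg.Agent.PSL2

variable {F : Type*} [Field F] [Finite F]

theorem odd_card_of_mod_eight (h : Nat.card F % 8 = 3 ∨ Nat.card F % 8 = 5) : Odd (Nat.card F) :=
  Nat.odd_iff.2 (by omega)

theorem two_part (h : Nat.card F % 8 = 3 ∨ Nat.card F % 8 = 5) :
    ∃ o : ℕ, Odd o ∧ Nat.card (PSL2 F) = 4 * o := by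
  have h1 := card_psl_mul (F := F)
  have hd : Nat.gcd 2 (Nat.card F - 1) = 2 := Nat.gcd_eq_left (by omega)
  rw [hd] at h1
  set q := Nat.card F with hq
  obtain ⟨m, hm⟩ : ∃ m, q = 8 * m + 3 ∨ q = 8 * m + 5 := ⟨q / 8, by omega⟩
  rcases hm with hm | hm
  · refine ⟨q * ((2 * m + 1) * (4 * m + 1)), (Nat.odd_iff.2 (by omega)).mul ((Nat.odd_iff.2 (by omega)).mul (Nat.odd_iff.2 (by omega))), ?_⟩
    have e : (q + 1) * (q - 1) = 8 * ((2 * m + 1) * (4 * m + 1)) := by
      rw [show q + 1 = 4 * (2 * m + 1) by omega, show q - 1 = 2 * (4 * m + 1) by omega]; ring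
    rw [e] at h1
    linarith
  · refine ⟨q * ((4 * m + 3) * (2 * m + 1)), (Nat.odd_iff.2 (by omega)).mul ((Nat.odd_iff.2 (by omega)).mul (Nat.odd_iff.2 (by omega))), ?_⟩
    have e : (q + 1) * (q - 1) = 8 * ((4 * m + 3) * (2 * m + 1)) := by
      rw [show q + 1 = 2 * (4 * m + 3) by omega, show q - 1 = 4 * (2 * m + 1) by omega]; ring
    rw [e] at h1
    linarith

theorem card_sylow_char (p : ℕ) [Fact p.Prime] [CharP F p] (S : Sylow p (PSL2 F)) :
    Nat.card S = Nat.card F := by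
  obtain ⟨x, hx, hx0, hcard, -⟩ := card_psl_split (F := F) p
  have := Fintype.ofFinite F
  obtain ⟨n, -, hn⟩ := FiniteField.card F p
  obtain ⟨k, hk⟩ := IsPGroup.iff_card.1 S.isPGroup'
  rw [S.card_eq_multiplicity, hcard, Nat.factorization_mul Nat.card_pos.ne' hx0, Finsupp.coe_add, Pi.add_apply,
    Nat.factorization_eq_zero_of_not_dvd hx, add_zero, Nat.card_eq_fintype_card, hn,
    Nat.Prime.factorization_pow Fact.out, Finsupp.single_eq_same]

/-- The centraliser of an element of order `p` is a Sylow subgroup, normal in a point stabiliser. -/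
theorem centralizer_char (p : ℕ) [Fact p.Prime] [CharP F p] {x : PSL2 F} (hx : orderOf x = p) :
    ∃ P : Pt F, normalizer (centralizer ({x} : Set (PSL2 F)) : Set (PSL2 F)) = stabilizer (PSL2 F) P ∧
      Nat.card (centralizer ({x} : Set (PSL2 F))) = Nat.card F := by
  have hC := card_centralizer_char p hx
  have := Fintype.ofFinite F
  obtain ⟨n, -, hn⟩ := FiniteField.card F p
  have hp : IsPGroup p (centralizer ({x} : Set (PSL2 F))) :=
    IsPGroup.of_card (n := n) (by rw [hC, Nat.card_eq_fintype_card, hn])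
  obtain ⟨S, hS⟩ := hp.exists_le_sylow
  have hSC : centralizer ({x} : Set (PSL2 F)) = (S : Subgroup (PSL2 F)) :=
    eq_of_le_of_card_ge hS ((card_sylow_char p S).trans hC.symm).le
  obtain ⟨P, hP⟩ := normalizer_sylow_le p S
  obtain ⟨ψ, hψ⟩ := exists_borel_hom p P
  set K := ψ.ker.map (stabilizer (PSL2 F) P).subtype with hK
  have hSK : (S : Subgroup (PSL2 F)) ≤ K := fun s hs => by
    refine ⟨⟨s, hP (le_normalizer hs)⟩, MonoidHom.mem_ker.2 ?_, rfl⟩
    have h1 : (⟨s, hP (le_normalizer hs)⟩ : stabilizer (PSL2 F) P) ^ Nat.card F = 1 := Subtype.ext (by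
      have := pow_card_eq_one' (x := (⟨s, hs⟩ : (S : Subgroup (PSL2 F))))
      rw [card_sylow_char p S] at this
      simpa using congrArg Subtype.val this)
    have h2 := congrArg (fun u : Fˣ => (u : F)) (congrArg ψ h1)
    simp only [map_pow, map_one, Units.val_pow_eq_pow_val, Units.val_one] at h2
    have := Fintype.ofFinite F
    rw [Nat.card_eq_fintype_card, FiniteField.pow_card] at h2
    exact Units.ext h2
  have hKp : IsPGroup p K := fun ⟨_, y, hy, rfl⟩ => ⟨1, Subtype.ext (by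
    rw [pow_one, SubmonoidClass.coe_pow]; exact (hψ y).1 hy)⟩
  have hKS : K = (S : Subgroup (PSL2 F)) := S.is_maximal' hKp hSK
  refine ⟨P, le_antisymm (hSC ▸ hP) fun g hg => ?_, hC⟩
  rw [hSC, ← hKS]
  refine Coprime.mem_normalizer_of_forall fun y hy => ?_
  obtain ⟨y, hy, rfl⟩ := hy
  exact ⟨⟨g, hg⟩ * y * ⟨g, hg⟩⁻¹, (MonoidHom.normal_ker ψ).conj_mem y hy _, rfl⟩

theorem exists_not_selfnorm (h4 : 4 ≤ Nat.card F) {x : PSL2 F} (hx1 : x ≠ 1) (hodd : Odd (orderOf x)) :
    ∃ n : PSL2 F, n ∈ normalizer (centralizer ({x} : Set (PSL2 F)) : Set (PSL2 F)) ∧ ¬ Commute n x := by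
  obtain ⟨p, hp⟩ := CharP.exists F
  haveI : Fact p.Prime := ⟨CharP.char_is_prime F p⟩
  by_cases hxp : orderOf x ∣ p
  · have hx : orderOf x = p := ((Nat.dvd_prime Fact.out).1 hxp).resolve_left fun e => hx1 (orderOf_eq_one_iff.1 e)
    obtain ⟨P, hP, hC⟩ := centralizer_char p hx
    by_contra hcon
    push Not at hcon
    have hle : stabilizer (PSL2 F) P ≤ centralizer ({x} : Set (PSL2 F)) := fun g hg =>
      mem_centralizer_singleton_iff.2 (hcon g (hP.symm ▸ hg)).eq
    have h1 := card_borel_mul (F := F) P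
    have h2 := Nat.le_of_dvd Nat.card_pos (card_dvd_of_le hle)
    rw [hC] at h2
    have h3 : Nat.gcd 2 (Nat.card F - 1) ≤ 2 := Nat.le_of_dvd two_pos (Nat.gcd_dvd_left _ _)
    have h4' : Nat.card F * (Nat.card F - 1) ≤ 2 * Nat.card F := h1 ▸ Nat.mul_le_mul h3 h2
    have h5 : Nat.card F * (Nat.card F - 1) ≤ Nat.card F * 2 := by linarith
    have := Nat.le_of_mul_le_mul_left h5 (by omega)
    omega
  · obtain ⟨w, -, hw⟩ := exists_inverting p hxp
    refine ⟨w, Coprime.mem_normalizer_of_forall fun c hc => ?_, fun e => ?_⟩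
    · have h1 : Commute (w * c * w⁻¹) (w * x * w⁻¹) :=
        (show Commute c x from mem_centralizer_singleton_iff.1 hc).map (MulAut.conj w).toMonoidHom
      rw [hw] at h1
      have h2 := h1.inv_right
      rw [inv_inv] at h2
      exact mem_centralizer_singleton_iff.2 h2.eq
    · rw [e.eq, mul_inv_cancel_right] at hw
      have h2 : x ^ 2 = 1 := by rw [pow_two]; nth_rw 2 [hw]; exact mul_inv_cancel x
      exact hx1 (orderOf_eq_one_iff.1 (Nat.eq_one_of_dvd_coprimes (Nat.coprime_two_right.2 hodd) dvd_rfl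
        (orderOf_dvd_of_pow_eq_one h2)))

theorem psl_commute_even (h4 : 4 ≤ Nat.card F) (he : Even (Nat.card F)) {a b c : PSL2 F} (hb : b ≠ 1)
    (hab : Commute a b) (hbc : Commute b c) : Commute a c := by
  have := Fintype.ofFinite F
  obtain ⟨p, hp⟩ := CharP.exists F
  haveI : Fact p.Prime := ⟨CharP.char_is_prime F p⟩
  obtain ⟨n, -, hn⟩ := FiniteField.card F p
  rw [Nat.card_eq_fintype_card, hn] at he
  have hp2 : p = 2 := ((Nat.Prime.even_iff Fact.out).1 (Nat.even_pow.1 he).1)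
  subst hp2
  exact CAEven.psl_commute n.2 hn hb hab hbc

/-- The Sylow 2-subgroups for `q` even. -/
theorem even_sylow (h4 : 4 ≤ Nat.card F) (he : Even (Nat.card F)) (U : Sylow 2 (PSL2 F)) :
    Nat.card U = Nat.card F ∧ (∀ u ∈ (U : Subgroup (PSL2 F)), u ≠ 1 → ∀ c, Commute c u → c ∈ (U : Subgroup (PSL2 F))) ∧
      (∀ a ∈ (U : Subgroup (PSL2 F)), ∀ b ∈ (U : Subgroup (PSL2 F)), Commute a b) ∧
      (normalizer ((U : Subgroup (PSL2 F)) : Set (PSL2 F))).index = Nat.card F + 1 := by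
  have := Fintype.ofFinite F
  haveI := Fact.mk Nat.prime_two
  obtain ⟨p, hp⟩ := CharP.exists F
  haveI : Fact p.Prime := ⟨CharP.char_is_prime F p⟩
  obtain ⟨n, -, hn⟩ := FiniteField.card F p
  have he' : Even (p ^ (n : ℕ)) := by rwa [Nat.card_eq_fintype_card, hn] at he
  have hp2 : p = 2 := ((Nat.Prime.even_iff Fact.out).1 (Nat.even_pow.1 he').1)
  subst hp2
  have hU := card_sylow_char 2 U
  obtain ⟨v, hv⟩ := exists_prime_orderOf_dvd_card' (G := (U : Subgroup (PSL2 F))) 2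
    (hU.symm ▸ even_iff_two_dvd.1 he)
  rw [← Subgroup.orderOf_coe] at hv
  obtain ⟨P, hP, hC⟩ := centralizer_char 2 hv
  have hcomm : ∀ a ∈ centralizer ({(v : PSL2 F)} : Set (PSL2 F)), ∀ b ∈ centralizer ({(v : PSL2 F)} : Set (PSL2 F)),
      Commute a b := fun a ha b hb => psl_commute_even h4 he (Involution.ne_one hv)
        (mem_centralizer_singleton_iff.1 ha) (show Commute b (v : PSL2 F) from mem_centralizer_singleton_iff.1 hb).symm
  have hp2 : IsPGroup 2 (centralizer ({(v : PSL2 F)} : Set (PSL2 F))) :=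
    IsPGroup.of_card (n := n) (by rw [hC, Nat.card_eq_fintype_card, hn])
  obtain ⟨S, hS⟩ := hp2.exists_le_sylow
  have hSC : centralizer ({(v : PSL2 F)} : Set (PSL2 F)) = (S : Subgroup (PSL2 F)) :=
    eq_of_le_of_card_ge hS ((card_sylow_char 2 S).trans hC.symm).le
  have hUv : (U : Subgroup (PSL2 F)) = centralizer ({(v : PSL2 F)} : Set (PSL2 F)) := by
    refine eq_of_le_of_card_ge (fun u hu => ?_) (hC.trans hU.symm).le
    obtain ⟨g, hg⟩ := MulAction.exists_smul_eq (PSL2 F) S U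
    refine mem_centralizer_singleton_iff.2 ?_
    have key : ∀ y, y ∈ (U : Subgroup (PSL2 F)) → g⁻¹ * y * g ∈ (S : Subgroup (PSL2 F)) := fun y hy => by
      rw [← hg, Sylow.coe_subgroup_smul] at hy
      obtain ⟨s, hs, rfl⟩ := hy
      simpa [mul_assoc] using (show s ∈ (S : Subgroup (PSL2 F)) from hs)
    have := (hcomm _ (hSC ▸ key u hu) _ (hSC ▸ key v v.2)).map (MulAut.conj g).toMonoidHom
    exact Commute.eq (by simpa [mul_assoc] using this)
  refine ⟨hU, fun u hu hu1 c hc => ?_, fun a ha b hb => hcomm a (hUv ▸ ha) b (hUv ▸ hb), ?_⟩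
  · rw [hUv] at hu ⊢
    exact mem_centralizer_singleton_iff.2
      (psl_commute_even h4 he hu1 hc (mem_centralizer_singleton_iff.1 hu))
  · rw [hUv, hP, index_borel]

theorem exists_nonabelian_centralizer (h7 : 7 ≤ Nat.card F) (hodd : Odd (Nat.card F)) :
    ∃ x a b : PSL2 F, x ≠ 1 ∧ Commute a x ∧ Commute b x ∧ ¬ Commute a b := by
  obtain ⟨j, hj⟩ := hodd
  have hd : Nat.gcd 2 (Nat.card F - 1) = 2 := Nat.gcd_eq_left (by omega)
  obtain ⟨m, hm, hmd⟩ : ∃ m, 2 ≤ m ∧ (2 * m ∣ (Nat.card F - 1) / Nat.gcd 2 (Nat.card F - 1) ∨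
      2 * m ∣ (Nat.card F + 1) / Nat.gcd 2 (Nat.card F - 1)) := by
    rw [hd]
    rcases Nat.even_or_odd j with ⟨i, hi⟩ | ⟨i, hi⟩
    · exact ⟨i, by omega, Or.inl (by rw [show (Nat.card F - 1) / 2 = 2 * i by omega])⟩
    · exact ⟨i + 1, by omega, Or.inr (by rw [show (Nat.card F + 1) / 2 = 2 * (i + 1) by omega])⟩
  obtain ⟨H, ⟨e⟩⟩ := exists_dihedral_sub (n := 2 * m) (by omega) hmd
  let f : DihedralGroup (2 * m) →* PSL2 F := H.subtype.comp e.symm.toMonoidHom
  have hf : Function.Injective f := H.subtype_injective.comp e.symm.injective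
  have hmm : (m : ZMod (2 * m)) + m = 0 := by
    rw [← Nat.cast_add, ← two_mul, ZMod.natCast_self]
  refine ⟨f (.r m), f (.r 1), f (.sr 0), fun h => ?_, ?_, ?_, fun h => ?_⟩
  · have h1 : (DihedralGroup.r (m : ZMod (2 * m))) = DihedralGroup.r 0 :=
      (hf (h.trans (map_one f).symm)).trans DihedralGroup.one_def
    rw [DihedralGroup.r.injEq, ZMod.natCast_eq_zero_iff] at h1
    have := Nat.le_of_dvd (by omega) h1
    omega
  · show f _ * f _ = f _ * f _
    rw [← map_mul, ← map_mul, DihedralGroup.r_mul_r, DihedralGroup.r_mul_r, add_comm]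
  · show f _ * f _ = f _ * f _
    rw [← map_mul, ← map_mul, DihedralGroup.sr_mul_r, DihedralGroup.r_mul_sr, sub_eq_add_neg,
      ← eq_neg_of_add_eq_zero_left hmm]
  · have h1 : (f (.r 1) * f (.sr 0) : PSL2 F) = f (.sr 0) * f (.r 1) := h
    rw [← map_mul, ← map_mul] at h1
    have h2 := hf h1
    rw [DihedralGroup.r_mul_sr, DihedralGroup.sr_mul_r, DihedralGroup.sr.injEq, zero_sub, zero_add,
      neg_eq_iff_add_eq_zero, ← Nat.cast_one, ← Nat.cast_add, ZMod.natCast_eq_zero_iff] at h2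
    have := Nat.le_of_dvd (by norm_num) h2
    omega

end Cfsg.Agent.MinNonCA
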