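import Cfsg.Agent.Lib.MinNonCA.Dihedral
import Cfsg.Agent.Lib.MinNonCA.PSLFacts
import Cfsg.Agent.Lib.CpQuotient.Congr
import Cfsg.Agent.Lib.Transfer.AbelianHall
import Cfsg.Agent.Lib.Linear.PSLTwoSmall
import Cfsg.Agent.S2086
import Cfsg.Agent.Lib.OneEvenOrder.OneComposite

/-!
# The perfect normal subgroup and its two shapes

* `exists_kernel` : a minimal nonsolvable normal subgroup is a `Kernel`
* `Kernel.abelian_case` : abelian Sylow 2-subgroups
* `Kernel.nonabelian_case` : nonabelian Sylow 2-subgroups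
-/

set_option autoImplicit false
set_option linter.style.haveILetI false
set_option linter.unusedSectionVars false

namespace Cfsg.Agent.MinNonCA

open Subgroup
open scoped commutatorElement

universe u

variable {G : Type u} [Group G] [Finite G]

theorem exists_kernel (hG : SubCA G) (hns : ¬ Group.IsSolvable G) :
    ∃ N : Subgroup G, N.Normal ∧ Kernel N := by
  have hne : ({K : Subgroup G | K.Normal ∧ ¬ Group.IsSolvable K}).Nonempty :=
    ⟨⊤, inferInstance, fun h => hns (Group.isSolvable_of_surjective (f := (topEquiv (G := G)).toMonoidHom) topEquiv.surjective)⟩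
  obtain ⟨N, ⟨hN, hNns⟩, hmin⟩ := (Set.toFinite _).exists_minimal hne
  haveI := hN
  refine ⟨N, hN, hG.subgroup N, hNns, ?_, fun K hK hKtop => ?_⟩
  · by_contra hne'
    haveI : ((commutator N).map N.subtype).Normal := inferInstance
    have h1 : Group.IsSolvable (commutator N) := by
      by_contra h
      apply hne'
      have h2 : (commutator N).map N.subtype = N := le_antisymm (map_subtype_le _)
        (hmin ⟨inferInstance, fun hs => h (by
          haveI := hs
          exact Group.isSolvable_of_isSolvable_injective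
            (f := ((commutator N).equivMapOfInjective N.subtype N.subtype_injective).toMonoidHom) (MulEquiv.injective _))⟩
          (map_subtype_le _))
      refine map_injective N.subtype_injective ?_
      rw [h2, ← MonoidHom.range_eq_map, range_subtype]
    exact hNns ((Group.isSolvable_iff_subgroup_quotient (commutator N)).2 ⟨h1,
      Group.isSolvable_of_comm fun a b => (inferInstance : CommGroup (Abelianization N)).mul_comm a b⟩)
  · haveI := hK
    haveI : (K.map N.subtype).Normal := inferInstance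
    by_contra h
    refine hKtop (map_injective N.subtype_injective ?_)
    rw [← MonoidHom.range_eq_map, range_subtype]
    exact le_antisymm (map_subtype_le _) (hmin ⟨inferInstance, fun hs => h (by
      haveI := hs
      exact Group.isSolvable_of_isSolvable_injective
        (f := (K.equivMapOfInjective N.subtype N.subtype_injective).toMonoidHom) (MulEquiv.injective _))⟩
      (map_subtype_le _))

theorem mem_center_sub (hG : SubCA G) {N : Subgroup G} [N.Normal] (hN : ¬ Group.IsSolvable N) {n : N}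
    (hn : n ∈ center N) : (n : G) ∈ center G :=
  mem_center_of_centralizes hG hN fun m hm => (congrArg Subtype.val (mem_center_iff.1 hn ⟨m, hm⟩)).symm

/-- Modulo its centre the kernel is `PSL(2, F)`, `|F| ≥ 4`. -/
def IsPSLTop (G : Type u) [Group G] : Prop :=
  ∃ (F : Type) (_ : Field F) (_ : Fintype F), 4 ≤ Fintype.card F ∧
    Nonempty (G ⧸ center G ≃* Matrix.ProjectiveSpecialLinearGroup (Fin 2) F)

theorem IsPSLTop.isSimpleGroup (h : IsPSLTop G) : IsSimpleGroup (G ⧸ center G) := by
  obtain ⟨F, _, _, h4, ⟨e⟩⟩ := h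
  haveI := PSL2.isSimpleGroup_psl (L := F) (by rwa [Nat.card_eq_fintype_card])
  exact e.isSimpleGroup_congr.2 inferInstance

/-- A normal subgroup inside the kernel is central or everything. -/
theorem normal_sub_cases (hG : SubCA G) {N : Subgroup G} [N.Normal] (hK : Kernel N) (hL : IsPSLTop N)
    {R : Subgroup G} [R.Normal] (hRN : R ≤ N) : R ≤ center G ∨ N ≤ R := by
  haveI := hL.isSimpleGroup
  set R' := R.subgroupOf N with hR'
  haveI : R'.Normal := inferInstance
  haveI : (R'.map (QuotientGroup.mk' (center N))).Normal :=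
    Subgroup.Normal.map inferInstance _ (QuotientGroup.mk'_surjective _)
  rcases IsSimpleGroup.eq_bot_or_eq_top_of_normal (R'.map (QuotientGroup.mk' (center N))) inferInstance with h | h
  · left
    intro r hr
    rw [Subgroup.map_eq_bot_iff, QuotientGroup.ker_mk'] at h
    exact mem_center_sub hG hK.ns (h (show (⟨r, hRN hr⟩ : N) ∈ R' from hr))
  · right
    have hker : commutator N ≤ R' := by
      rw [commutator_def, Subgroup.commutator_le]
      intro a _ b _
      obtain ⟨r, hr, hra⟩ : ∃ r ∈ R', QuotientGroup.mk' (center N) r = QuotientGroup.mk' (center N) a :=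
        (h ▸ mem_top _ : QuotientGroup.mk' (center N) a ∈ R'.map (QuotientGroup.mk' (center N)))
      have hz : r⁻¹ * a ∈ center N := (QuotientGroup.eq (s := center N)).1 hra
      have e : ⁅a, b⁆ = ⁅r, b⁆ := by
        rw [commutatorElement_def, commutatorElement_def, show a = r * (r⁻¹ * a) by group]
        set z := r⁻¹ * a
        calc r * z * b * (r * z)⁻¹ * b⁻¹ = r * (z * b * z⁻¹) * r⁻¹ * b⁻¹ := by group
          _ = _ := by rw [(mem_center_iff.1 hz b).symm, mul_inv_cancel_right]
      rw [e, commutatorElement_def, show r * b * r⁻¹ * b⁻¹ = r * (b * r⁻¹ * b⁻¹) by group]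
      exact mul_mem hr ((inferInstance : R'.Normal).conj_mem _ (inv_mem hr) b)
    intro n hn
    exact hker (hK.perfect ▸ mem_top (⟨n, hn⟩ : N))

theorem card_center_dvd (hP : commutator G = ⊤) {F : Type} [Field F] [Fintype F] (h4 : 4 ≤ Fintype.card F)
    (hne4 : Fintype.card F ≠ 4) (hne9 : Fintype.card F ≠ 9)
    (e : G ⧸ center G ≃* Matrix.ProjectiveSpecialLinearGroup (Fin 2) F) :
    Nat.card (center G) ∣ Nat.gcd 2 (Fintype.card F - 1) := by
  have hM := S2086.result (F := F) rfl 2 le_rfl (fun _ => h4) (by simp [hne4, hne9])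
  haveI : Group.IsPerfect G := ⟨hP⟩
  have h := CpQuotient.exists_stem_dvd (inferInstance : Group.IsPerfect G) hM
    (e.toMonoidHom.comp (QuotientGroup.mk' (center G))) (e.surjective.comp (QuotientGroup.mk'_surjective _)) ?_
  · have hk : (e.toMonoidHom.comp (QuotientGroup.mk' (center G))).ker = center G := by
      ext g
      rw [MonoidHom.mem_ker]
      show e (g : G ⧸ center G) = 1 ↔ _
      rw [← map_one e, e.injective.eq_iff, QuotientGroup.eq_one_iff]
    rwa [hk, Nat.card_congr Multiplicative.toAdd, Nat.card_zmod] at h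
  · intro g hg
    have h1 : e (g : G ⧸ center G) = e 1 := by rw [map_one]; exact hg
    exact (QuotientGroup.eq_one_iff g).1 (e.injective h1)

theorem psl_five_equiv {F : Type} [Field F] [Fintype F] (hF : Fintype.card F = 5) :
    ∃ (K : Type) (_ : Field K) (_ : Fintype K), Fintype.card K = 4 ∧
      Nonempty (Matrix.ProjectiveSpecialLinearGroup (Fin 2) F ≃* Matrix.ProjectiveSpecialLinearGroup (Fin 2) K) := by
  haveI : Fact (Nat.Prime 2) := ⟨Nat.prime_two⟩
  let iK : Fintype (GaloisField 2 2) := Fintype.ofFinite _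
  have h4 : Nat.card (GaloisField 2 2) = 4 := by rw [GaloisField.card 2 2 two_ne_zero]; rfl
  obtain ⟨f⟩ := Linear.nonempty_pslTwo_five hF
  obtain ⟨g⟩ := Linear.nonempty_pslTwo_four h4
  exact ⟨GaloisField 2 2, inferInstance, iK, by rw [← Nat.card_eq_fintype_card, h4], ⟨f.trans g.symm⟩⟩

/-- Abelian Sylow 2-subgroups: the kernel is `PSL(2, F)`. -/
theorem Kernel.abelian_case (h : Kernel G) (T : Sylow 2 G)
    (hT : ∀ a ∈ (T : Subgroup G), ∀ b ∈ (T : Subgroup G), Commute a b) :
    ∃ (F : Type) (_ : Field F) (_ : Fintype F),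
      (((Fintype.card F % 8 = 3 ∨ Fintype.card F % 8 = 5) ∧ 7 ≤ Fintype.card F) ∨
        (4 ≤ Fintype.card F ∧ Even (Fintype.card F))) ∧
      Nonempty (G ≃* Matrix.ProjectiveSpecialLinearGroup (Fin 2) F) := by
  haveI := Fact.mk Nat.prime_two
  obtain ⟨F, iF, iF', hF, ⟨e⟩⟩ := h.exists_psl T fun a ha b hb => by
    rw [(hT a ha b hb).eq, mul_inv_cancel_right, mul_inv_cancel]; exact one_mem _
  have hodd : ¬ 2 ∣ Nat.card (center G) := fun h2 => by
    obtain ⟨z, hz⟩ := exists_prime_orderOf_dvd_card' (G := center G) 2 h2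
    obtain ⟨g, hg⟩ := Transfer.exists_conj_mem_sylow T (t := (z : G)) (k := 1)
      (by rw [Subgroup.orderOf_coe, hz, pow_one])
    rw [mem_center_iff.1 z.2 g, mul_inv_cancel_right] at hg
    have h1 := Transfer.inf_commutator_inf_center_eq_bot (T : Subgroup G)
      ⟨⟨fun a b => Subtype.ext (hT a a.2 b b.2)⟩⟩ T.card_coprime_index
    have h2 : (z : G) ∈ (T : Subgroup G) ⊓ commutator G ⊓ center G := ⟨⟨hg, h.perfect ▸ mem_top _⟩, z.2⟩
    rw [h1, mem_bot] at h2
    rw [← Subgroup.orderOf_coe, h2, orderOf_one] at hz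
    exact absurd hz (by norm_num)
  have hdvd : Nat.card (center G) ∣ 2 := by
    rcases hF with ⟨h8, h5⟩ | ⟨n, hn, hn'⟩
    · exact (card_center_dvd h.perfect (by omega) (by omega) (by omega) e).trans (Nat.gcd_dvd_left _ _)
    · by_cases h4 : Fintype.card F = 4
      · obtain ⟨f⟩ := OneEvenOrder.psl_four_equiv (F := F) h4
        haveI : Fact (Nat.Prime 5) := ⟨Nat.prime_five⟩
        exact (card_center_dvd h.perfect (by rw [ZMod.card]; norm_num) (by rw [ZMod.card]; norm_num)
          (by rw [ZMod.card]; norm_num) (e.trans f)).trans (Nat.gcd_dvd_left _ _)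
      · refine (card_center_dvd h.perfect ?_ h4 ?_ e).trans (Nat.gcd_dvd_left _ _)
        · rw [hn']; exact (show 4 = 2 ^ 2 from rfl) ▸ Nat.pow_le_pow_right two_pos hn
        · intro h9
          have := (hn'.symm.trans h9) ▸ dvd_pow_self 2 (show n ≠ 0 by omega)
          norm_num at this
  have hZ : center G = ⊥ := by
    rcases (Nat.dvd_prime Nat.prime_two).1 hdvd with h1 | h1
    · exact Subgroup.card_eq_one.1 h1
    · exact absurd (h1 ▸ dvd_rfl) hodd
  let e0 : G ≃* G ⧸ center G := ((QuotientGroup.quotientMulEquivOfEq hZ).trans QuotientGroup.quotientBot).symm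
  rcases hF with ⟨h8, h5⟩ | ⟨n, hn, hn'⟩
  · by_cases h5' : Fintype.card F = 5
    · obtain ⟨K, iK, iK', hK, ⟨f⟩⟩ := psl_five_equiv h5'
      exact ⟨K, iK, iK', Or.inr ⟨hK.ge, hK ▸ (by decide)⟩, ⟨(e0.trans e).trans f⟩⟩
    · exact ⟨F, iF, iF', Or.inl ⟨h8, by omega⟩, ⟨e0.trans e⟩⟩
  · exact ⟨F, iF, iF', Or.inr ⟨hn' ▸ (show 4 = 2 ^ 2 from rfl) ▸ Nat.pow_le_pow_right two_pos hn,
      hn' ▸ (Nat.even_pow.2 ⟨even_two, by omega⟩)⟩, ⟨e0.trans e⟩⟩

/-- The shape of `T` modulo the centre: dihedral or a four group. -/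
def Shape (T : Sylow 2 G) : Prop :=
  (∃ a s : G, a ∈ (T : Subgroup G) ∧ s ∈ (T : Subgroup G) ∧
    a * a ∉ center G ∧
    (∀ t ∈ (T : Subgroup G), (t : G ⧸ center G) ∈ zpowers (a : G ⧸ center G) ∨
      ((t : G ⧸ center G) * (s : G ⧸ center G) ∈ zpowers (a : G ⧸ center G) ∧ t * t ∈ center G))) ∨
  ((∀ t ∈ (T : Subgroup G), t * t ∈ center G) ∧
    Nat.card ((T : Subgroup G).map (QuotientGroup.mk' (center G))) = 4)

theorem Kernel.nonabelian_case (h : Kernel G) (T : Sylow 2 G)
    (hT : ∃ a ∈ (T : Subgroup G), ∃ b ∈ (T : Subgroup G), ¬ Commute a b) :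
    Shape T ∧ IsPSLTop G := by
  haveI := Fact.mk Nat.prime_two
  obtain ⟨x, hx, hxZ, hx2, hxc⟩ := exists_second_center h.subCA h.ns T hT
  by_cases hel : ∀ t ∈ (T : Subgroup G), t * t ∈ center G
  · -- elementary modulo the centre
    obtain ⟨F, iF, iF', hF, ⟨e⟩⟩ := h.exists_psl T fun a ha b hb => by
      have hsq : ∀ {t : G}, t ∈ (T : Subgroup G) → (t : G ⧸ center G)⁻¹ = t := fun {t} ht =>
        inv_eq_of_mul_eq_one_right (by rw [← QuotientGroup.mk_mul, QuotientGroup.eq_one_iff]; exact hel t ht)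
      refine mk_commute_iff.1 ?_
      show (a : G ⧸ center G) * b = b * a
      calc (a : G ⧸ center G) * b = ((a * b : G) : G ⧸ center G)⁻¹ := by
            rw [hsq (mul_mem ha hb), QuotientGroup.mk_mul]
        _ = _ := by rw [QuotientGroup.mk_mul, mul_inv_rev, hsq ha, hsq hb]
    have h4 : 4 ≤ Fintype.card F := by
      rcases hF with ⟨-, h5⟩ | ⟨n, hn, hF⟩
      · omega
      · rw [hF]; exact (show 4 = 2 ^ 2 from rfl) ▸ Nat.pow_le_pow_right two_pos hn
    refine ⟨Or.inr ⟨hel, ?_⟩, F, iF, iF', h4, ⟨e⟩⟩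
    let P : Sylow 2 (Matrix.ProjectiveSpecialLinearGroup (Fin 2) F) :=
      (T.mapSurjective (QuotientGroup.mk'_surjective (center G))).mapSurjective (f := e.toMonoidHom) e.surjective
    have hP : Nat.card P = Nat.card ((T : Subgroup G).map (QuotientGroup.mk' (center G))) := by
      show Nat.card (((T : Subgroup G).map (QuotientGroup.mk' (center G))).map e.toMonoidHom) = _
      exact card_map_of_injective e.injective
    rw [← hP]
    rcases hF with ⟨h8, -⟩ | ⟨n, hn, hn'⟩
    · obtain ⟨o, ho, hcard⟩ := two_part (F := F) (by rwa [Nat.card_eq_fintype_card])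
      rw [show (4 : ℕ) = 2 ^ 2 from rfl] at hcard
      exact SmallOrders.card_sylow_subgroup hcard (Nat.two_dvd_ne_zero.2 (Nat.odd_iff.1 ho)) P
    · by_cases h4' : Fintype.card F = 4
      · rw [(even_sylow (F := F) (by rw [Nat.card_eq_fintype_card]; omega)
          (by rw [Nat.card_eq_fintype_card, h4']; decide) P).1, Nat.card_eq_fintype_card, h4']
      · exfalso
        have h9 : Fintype.card F ≠ 9 := fun h9 => by
          have := (hn'.symm.trans h9) ▸ dvd_pow_self 2 (show n ≠ 0 by omega)
          norm_num at this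
        have hd := card_center_dvd h.perfect h4 h4' h9 e
        rw [hn', Nat.Coprime.gcd_eq_one (Nat.coprime_two_left.2 (Nat.Even.sub_odd (Nat.one_le_two_pow)
          (Nat.even_pow.2 ⟨even_two, by omega⟩) odd_one))] at hd
        have hZ : center G = ⊥ := Subgroup.card_eq_one.1 (Nat.dvd_one.1 hd)
        obtain ⟨a, ha, b, hb, hab⟩ := hT
        refine hab ?_
        have hsq : ∀ {t : G}, t ∈ (T : Subgroup G) → t⁻¹ = t := fun {t} ht =>
          inv_eq_of_mul_eq_one_right (by have := hel t ht; rwa [hZ, mem_bot] at this)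
        show a * b = b * a
        calc a * b = (a * b)⁻¹ := (hsq (mul_mem ha hb)).symm
          _ = _ := by rw [mul_inv_rev, hsq ha, hsq hb]
  · -- dihedral modulo the centre
    push Not at hel
    have h2 := (dichotomy h.subCA h.ns T hT hx hxZ hx2 hxc).resolve_left (by push Not; exact hel)
    have hctx : Ctx G T x := ⟨h, hT, hx, hxZ, hx2, hxc, h2, hel⟩
    obtain ⟨a, s, ha, hs, hax, hsA, ha2, hgen⟩ := hctx.exists_pair
    obtain ⟨F, iF, iF', hodd, ⟨e⟩⟩ := hctx.exists_psl
    refine ⟨Or.inl ⟨a, s, ha, hs, ha2, fun t ht => ?_⟩, F, iF, iF', ?_, ⟨e⟩⟩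
    · by_cases htx : Commute t x
      · exact Or.inl (hgen t ht htx)
      · exact Or.inr ⟨hgen _ (mul_mem ht hs) (h2 t ht s hs htx hsA), hctx.sq_center ht htx⟩
    · by_contra h4
      have hc : Fintype.card F = 3 := by
        have h1 : 1 < Fintype.card F := Fintype.one_lt_card
        obtain ⟨k, hk⟩ := hodd
        omega
      have hsl : Group.IsSolvable (Matrix.SpecialLinearGroup (Fin 2) F) := by
        refine CharApp.isSolvable_of_card_eq_prime_pow_mul 2 3 Nat.prime_two Nat.prime_three _ _ rfl 3 1 ?_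
        rw [GLOrder.card_SL, Nat.card_eq_fintype_card, hc]
        rfl
      haveI : Group.IsSolvable (Matrix.ProjectiveSpecialLinearGroup (Fin 2) F) :=
        Group.isSolvable_of_surjective (f := QuotientGroup.mk' _) (QuotientGroup.mk'_surjective _)
      exact h.ns ((Group.isSolvable_iff_subgroup_quotient (center G)).2
        ⟨Group.isSolvable_of_comm fun a b => Subtype.ext (mem_center_iff.1 b.2 a),
          Group.isSolvable_of_surjective (f := e.symm.toMonoidHom) e.symm.surjective⟩)

end Cfsg.Agent.MinNonCA
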