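import Cfsg.Agent.Lib.AbelianTwoFactor.ClassSize
import Cfsg.Agent.Lib.OddOrderTheorem.Basic
import Cfsg.Agent.Lib.Solvable.Basic
import Cfsg.Agent.Lib.Transfer.Tate

/-!
# Groups all of whose proper subgroups are CA-groups: basic lemmas

* `SubCA` : every proper subgroup has abelian centralisers of noncentral elements
* `commute_in_cent`, `commute_all` : the two uses of the hypothesis
* `SubCA.subgroup` : heredity
* `mem_center_of_perfect_centralizer` : nonsolvable normal subgroups have central centraliser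
* `isSolvable_of_sylow_central` : Burnside transfer with the odd order theorem
-/

set_option autoImplicit false
set_option linter.style.haveILetI false
set_option linter.unusedSectionVars false

namespace Cfsg.Agent.MinNonCA

open Subgroup

universe u

variable {G : Type u} [Group G]

/-- All proper subgroups are CA-groups. -/
def SubCA (G : Type u) [Group G] : Prop :=
  ∀ H : Subgroup G, H ≠ ⊤ → ∀ x : H, x ∉ Subgroup.center H →
    IsMulCommutative (Subgroup.centralizer ({x} : Set H))

theorem commute_in_cent (hG : SubCA G) {H : Subgroup G} (hH : H ≠ ⊤) {x n a b : G} (hx : x ∈ H)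
    (hn : n ∈ H) (hxn : ¬ Commute x n) (ha : a ∈ H) (hb : b ∈ H) (hax : Commute a x) (hbx : Commute b x) :
    Commute a b := by
  have hxc : (⟨x, hx⟩ : H) ∉ center H := fun h =>
    hxn (congrArg Subtype.val (mem_center_iff.1 h ⟨n, hn⟩)).symm
  have h := (hG H hH _ hxc).is_comm.comm
    ⟨⟨a, ha⟩, mem_centralizer_singleton_iff.2 (Subtype.ext hax.eq)⟩
    ⟨⟨b, hb⟩, mem_centralizer_singleton_iff.2 (Subtype.ext hbx.eq)⟩
  exact congrArg (fun z : centralizer ({(⟨x, hx⟩ : H)} : Set H) => ((z : H) : G)) h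

theorem commute_all (hG : SubCA G) {H : Subgroup G} (hH : H ≠ ⊤) {z a b : G} (hz : z ∈ H) (ha : a ∈ H)
    (hb : b ∈ H) (hza : Commute a z) (hzb : Commute b z) (hab : ¬ Commute a b) {h : G} (hh : h ∈ H) :
    Commute z h :=
  by_contra fun hn => hab (commute_in_cent hG hH hz hh hn ha hb hza hzb)

theorem SubCA.subgroup [Finite G] (hG : SubCA G) (N : Subgroup G) : SubCA N := by
  intro H hH x hx
  obtain ⟨n, hn⟩ : ∃ n : H, n * x ≠ x * n := by
    by_contra hcon
    push Not at hcon
    exact hx (mem_center_iff.2 hcon)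
  have hH' : H.map N.subtype ≠ ⊤ := fun h => hH (eq_top_iff.2 fun m _ => by
    obtain ⟨k, hk, hkm⟩ := (h ▸ mem_top (m : G) : (m : G) ∈ H.map N.subtype)
    rwa [← N.subtype_injective hkm])
  have hm : ∀ y : H, ((y : N) : G) ∈ H.map N.subtype := fun y => mem_map_of_mem _ y.2
  refine ⟨⟨fun a b => Subtype.ext (Subtype.ext (Subtype.ext ?_))⟩⟩
  refine commute_in_cent hG hH' (hm x) (hm n) (fun h => hn ?_) (hm a) (hm b) ?_ ?_
  · exact Subtype.ext (Subtype.ext h.eq.symm)
  · exact congrArg (fun z : H => ((z : N) : G)) (mem_centralizer_singleton_iff.1 a.2)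
  · exact congrArg (fun z : H => ((z : N) : G)) (mem_centralizer_singleton_iff.1 b.2)

section Finite

variable [Finite G]

theorem isSolvable_of_odd_card {X : Type u} [Group X] [Finite X] (h : Odd (Nat.card X)) :
    Group.IsSolvable X :=
  OddOrderTheorem.solvable_of_card _ X rfl h

/-- A normal subgroup of odd index is as solvable as the group. -/
theorem not_isSolvable_of_odd_index (hns : ¬ Group.IsSolvable G) (K : Subgroup G) [K.Normal]
    (h : Odd K.index) : ¬ Group.IsSolvable K := fun hK =>
  hns ((Group.isSolvable_iff_subgroup_quotient K).2 ⟨hK, isSolvable_of_odd_card (by rwa [← index_eq_card])⟩)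

/-- Burnside transfer: a group with Sylow 2-subgroup central in its normaliser is solvable. -/
theorem isSolvable_of_sylow_central (T : Sylow 2 G)
    (h : normalizer ((T : Subgroup G) : Set G) ≤ centralizer ((T : Subgroup G) : Set G)) :
    Group.IsSolvable G := by
  haveI := Fact.mk Nat.prime_two
  obtain ⟨P, K, hK, hc⟩ := Transfer.hasNormalPComplement_of_normalizer_le_centralizer T h
  haveI := hK
  refine (Group.isSolvable_iff_subgroup_quotient K).2 ⟨isSolvable_of_odd_card ?_, ?_⟩
  · rw [← hc.index_eq_card]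
    exact Nat.odd_iff.2 (Nat.two_dvd_ne_zero.1 P.not_dvd_index)
  · haveI := Solvable.isSolvable_of_isPGroup P.isPGroup'
    exact Group.isSolvable_of_surjective (f := (hc.symm.QuotientMulEquiv).symm.toMonoidHom) (MulEquiv.surjective _)

/-- A group with a normal Sylow 2-subgroup is solvable. -/
theorem isSolvable_of_normal_sylow (T : Sylow 2 G) (h : (T : Subgroup G).Normal) : Group.IsSolvable G := by
  haveI := Fact.mk Nat.prime_two
  haveI := h
  exact (Group.isSolvable_iff_subgroup_quotient _).2 ⟨Solvable.isSolvable_of_isPGroup T.isPGroup',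
    isSolvable_of_odd_card (by rw [← index_eq_card]; exact Nat.odd_iff.2 (Nat.two_dvd_ne_zero.1 T.not_dvd_index))⟩

theorem exists_perfect (hns : ¬ Group.IsSolvable G) :
    ∃ N : Subgroup G, N.Normal ∧ ¬ Group.IsSolvable N ∧ commutator N = ⊤ := by
  obtain ⟨L, hL, -, h1, h2⟩ := AbelianTwoFactor.exists_perfect_normal (G := G) (K := ⊤) fun h =>
    hns (Group.isSolvable_of_surjective (f := (topEquiv (G := G)).toMonoidHom) topEquiv.surjective)
  exact ⟨L, hL, h1, h2⟩

theorem ne_top_of_isSolvable (hns : ¬ Group.IsSolvable G) {H : Subgroup G} (h : Group.IsSolvable H) :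
    H ≠ ⊤ := by
  rintro rfl
  exact hns (Group.isSolvable_of_surjective (f := (topEquiv (G := G)).toMonoidHom) topEquiv.surjective)

/-- A nonsolvable normal subgroup has central centraliser. -/
theorem mem_center_of_centralizes (hG : SubCA G) {N : Subgroup G} [N.Normal] (hN : ¬ Group.IsSolvable N)
    {c : G} (hc : ∀ n ∈ N, Commute c n) : c ∈ center G := by
  haveI := Fact.mk Nat.prime_two
  obtain ⟨T⟩ := (inferInstance : Nonempty (Sylow 2 N))
  set H := normalizer (((T : Subgroup N).map N.subtype : Subgroup G) : Set G) with hHdef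
  have hsup : H ⊔ N = ⊤ := Sylow.normalizer_sup_eq_top T
  have hH : H ≠ ⊤ := fun e => hN (isSolvable_of_normal_sylow T ⟨fun x hx n => by
    have := (mem_normalizer_iff.1 (e ▸ mem_top (n : G) : (n : G) ∈ H) x).1 (mem_map_of_mem _ hx)
    obtain ⟨y, hy, e'⟩ := this
    have e'' : y = n * x * n⁻¹ := Subtype.ext e'
    exact e'' ▸ hy⟩)
  have hcH : c ∈ H := mem_normalizer_iff.2 fun z => by
    constructor
    · rintro ⟨y, hy, rfl⟩
      exact ⟨y, hy, by simp only [coe_subtype]; rw [(hc _ y.2).eq, mul_inv_cancel_right]⟩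
    · rintro ⟨y, hy, e⟩
      refine ⟨y, hy, ?_⟩
      simp only [coe_subtype] at e ⊢
      rw [eq_mul_inv_iff_mul_eq, ← (hc _ y.2).eq] at e
      exact mul_left_cancel e
  have hnorm : ∀ n : N, n ∈ normalizer ((T : Subgroup N) : Set N) → (n : G) ∈ H := fun n hn =>
    mem_normalizer_iff.2 fun z => by
      constructor
      · rintro ⟨y, hy, rfl⟩
        exact ⟨n * y * n⁻¹, (mem_normalizer_iff.1 hn y).1 hy, rfl⟩
      · rintro ⟨y, hy, e⟩
        refine ⟨n⁻¹ * y * n, (mem_normalizer_iff''.1 hn y).1 hy, ?_⟩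
        show (n : G)⁻¹ * y * n = z
        rw [show (y : G) = n * z * (n : G)⁻¹ from e]; group
  obtain ⟨a, ha, b, hb, hab⟩ : ∃ a ∈ normalizer ((T : Subgroup N) : Set N),
      ∃ b ∈ (T : Subgroup N), ¬ Commute b a := by
    by_contra hcon
    push Not at hcon
    exact hN (isSolvable_of_sylow_central T fun a ha => mem_centralizer_iff.2 fun b hb => (hcon a ha b hb).eq)
  have hall : ∀ h ∈ H, Commute c h := fun h hh => commute_all hG hH hcH (hnorm a ha)
    (hnorm b (le_normalizer hb)) (hc _ a.2).symm (hc _ b.2).symm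
    (fun e => hab (Subtype.ext (e.symm : ((b : G) * a = a * b)))) hh
  have : H ⊔ N ≤ centralizer {c} := sup_le (fun h hh => mem_centralizer_singleton_iff.2 (hall h hh).eq.symm)
    fun n hn => mem_centralizer_singleton_iff.2 (hc n hn).eq.symm
  refine mem_center_iff.2 fun g => ?_
  exact mem_centralizer_singleton_iff.1 (this (hsup ▸ mem_top g))

/-- An element centralising a perfect nonsolvable normal subgroup modulo the centre is central. -/
theorem mem_center_of_mod_center (hG : SubCA G) {N : Subgroup G} [N.Normal] (hN : ¬ Group.IsSolvable N)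
    (hP : commutator N = ⊤) {c : G} (hc : ∀ n ∈ N, c * n * c⁻¹ * n⁻¹ ∈ center G) : c ∈ center G := by
  refine mem_center_of_centralizes hG hN fun n hn => ?_
  let φ : N →* center G :=
    { toFun := fun m => ⟨c * m * c⁻¹ * (m : G)⁻¹, hc _ m.2⟩
      map_one' := Subtype.ext (by simp)
      map_mul' := fun m k => Subtype.ext (by
        have hz := mem_center_iff.1 (hc _ k.2) (m : G)
        show c * (m * k : G) * c⁻¹ * (m * k : G)⁻¹ = c * m * c⁻¹ * (m : G)⁻¹ * (c * k * c⁻¹ * (k : G)⁻¹)
        calc c * ((m : G) * k) * c⁻¹ * ((m : G) * k)⁻¹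
            = c * m * c⁻¹ * ((c * k * c⁻¹ * (k : G)⁻¹) * (m : G)⁻¹) := by group
          _ = _ := by
            rw [show (c * k * c⁻¹ * (k : G)⁻¹) * (m : G)⁻¹ = (m : G)⁻¹ * (c * k * c⁻¹ * (k : G)⁻¹) from
              (mem_center_iff.1 (hc _ k.2) ((m : G)⁻¹)).symm]
            group) }
  have hker : commutator N ≤ φ.ker := by
    rw [commutator_def, Subgroup.commutator_le]
    intro a _ b _
    rw [MonoidHom.mem_ker, commutatorElement_def, map_mul, map_mul, map_mul, map_inv, map_inv]
    refine Subtype.ext ?_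
    have := mem_center_iff.1 (φ b).2 ((φ a : center G) : G)
    simp only [coe_mul, coe_inv, coe_one]
    rw [this]
    group
  have h1 : φ ⟨n, hn⟩ = 1 := hker (hP ▸ mem_top _)
  have h2 : c * n * c⁻¹ * n⁻¹ = 1 := congrArg Subtype.val h1
  rwa [mul_inv_eq_one, mul_inv_eq_iff_eq_mul] at h2

/-- A solvable or nonsolvable normal subgroup `K` containing commutators: elements moving the
elements of `K` into the centre. -/
theorem mem_center_of_sylow_central (hG : SubCA G) (hns : ¬ Group.IsSolvable G) (T : Sylow 2 G) {v : G}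
    (V : Subgroup G) [V.Normal] (hv : v ∈ V)
    (h : ∀ t ∈ (T : Subgroup G), ∀ w ∈ V, t * w * t⁻¹ * w⁻¹ ∈ center G) : v ∈ center G := by
  haveI := Fact.mk Nat.prime_two
  haveI : (V.map (QuotientGroup.mk' (center G))).Normal :=
    Subgroup.Normal.map inferInstance _ (QuotientGroup.mk'_surjective _)
  set M := (centralizer ((V.map (QuotientGroup.mk' (center G)) : Subgroup (G ⧸ center G)) :
    Set (G ⧸ center G))).comap (QuotientGroup.mk' (center G)) with hM
  have key : ∀ g w : G, (w : G ⧸ center G) * g = g * w ↔ g * w * g⁻¹ * w⁻¹ ∈ center G := fun g w => by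
    rw [← QuotientGroup.eq_one_iff, QuotientGroup.mk_mul, QuotientGroup.mk_mul, QuotientGroup.mk_mul,
      QuotientGroup.mk_inv, QuotientGroup.mk_inv, mul_inv_eq_one, mul_inv_eq_iff_eq_mul]
    exact eq_comm
  have hTM : (T : Subgroup G) ≤ M := fun t ht => mem_comap.2 (mem_centralizer_iff.2 fun y hy => by
    obtain ⟨w, hw, rfl⟩ := hy
    exact (key t w).2 (h t ht w hw))
  have hodd : Odd M.index := Nat.odd_iff.2 (Nat.two_dvd_ne_zero.1 fun h2 =>
    T.not_dvd_index (h2.trans (index_dvd_of_le hTM)))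
  haveI : M.Normal := inferInstance
  obtain ⟨L, hL, hLM, hLns, hLP⟩ :=
    AbelianTwoFactor.exists_perfect_normal (not_isSolvable_of_odd_index hns M hodd)
  refine mem_center_of_mod_center hG hLns hLP fun n hn => ?_
  have hnv : n * v * n⁻¹ * v⁻¹ ∈ center G :=
    (key n v).1 (mem_centralizer_iff.1 (mem_comap.1 (hLM hn)) _ (mem_map_of_mem _ hv))
  have := inv_mem hnv
  rwa [show v * n * v⁻¹ * n⁻¹ = (n * v * n⁻¹ * v⁻¹)⁻¹ by group]

end Finite

end Cfsg.Agent.MinNonCA
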