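import Cfsg.Agent.Lib.MinNonCA.Setting

/-!
# A kernel with abelian Sylow 2-subgroups

* `even_commute` : `PSL(2, 2^n)` as kernel forces a CA-group
* `odd_conditions` : the conditions on `q`
-/

set_option autoImplicit false
set_option linter.style.haveILetI false
set_option linter.unusedSectionVars false

namespace Cfsg.Agent.MinNonCA

open Subgroup

universe u

variable {G : Type u} [Group G] [Finite G]

theorem conjNormal_mk_coe {N : Subgroup G} [N.Normal] (g : G) (n : N) :
    ((MulAut.conjNormal g n : N) : G) = g * n * g⁻¹ := MulAut.conjNormal_apply g n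

/-- The facts about `PSL(2, 2^n)` carried to the kernel. -/
theorem even_facts {N : Type u} [Group N] [Finite N] {F : Type} [Field F] [Fintype F] (h4 : 4 ≤ Fintype.card F)
    (he : Even (Fintype.card F)) (e : N ≃* Matrix.ProjectiveSpecialLinearGroup (Fin 2) F) (U : Sylow 2 N) :
    Nat.card U = Fintype.card F ∧
      (∀ u ∈ (U : Subgroup N), u ≠ 1 → ∀ c, Commute c u → c ∈ (U : Subgroup N)) ∧
      (∀ a ∈ (U : Subgroup N), ∀ b ∈ (U : Subgroup N), Commute a b) ∧
      (normalizer ((U : Subgroup N) : Set N)).index = Fintype.card F + 1 ∧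
      Nat.card N = Fintype.card F * ((Fintype.card F + 1) * (Fintype.card F - 1)) := by
  haveI := Fact.mk Nat.prime_two
  have h4' : 4 ≤ Nat.card F := by rwa [Nat.card_eq_fintype_card]
  have he' : Even (Nat.card F) := by rwa [Nat.card_eq_fintype_card]
  let P : Sylow 2 (Matrix.ProjectiveSpecialLinearGroup (Fin 2) F) := U.mapSurjective (f := e.toMonoidHom) e.surjective
  obtain ⟨h1, h2, h3, h5⟩ := even_sylow h4' he' P
  have hmem : ∀ {n : N}, e n ∈ (P : Subgroup (Matrix.ProjectiveSpecialLinearGroup (Fin 2) F)) → n ∈ (U : Subgroup N) :=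
    fun {n} hn => by
      obtain ⟨m, hm, hmn⟩ := hn
      exact e.injective hmn ▸ hm
  have hmap : ∀ {n : N}, n ∈ (U : Subgroup N) → e n ∈ (P : Subgroup (Matrix.ProjectiveSpecialLinearGroup (Fin 2) F)) :=
    fun {n} hn => ⟨n, hn, rfl⟩
  refine ⟨?_, fun u hu hu1 c hc => hmem (h2 _ (hmap hu) (fun h => hu1 (e.injective (h.trans (map_one e).symm))) _
    (hc.map e.toMonoidHom)), fun a ha b hb => ?_, ?_, ?_⟩
  · rw [← Nat.card_eq_fintype_card, ← h1]
    exact (card_map_of_injective e.injective).symm
  · have := h3 _ (hmap ha) _ (hmap hb)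
    exact e.injective (by rw [map_mul, map_mul]; exact this.eq)
  · rw [← Nat.card_eq_fintype_card, ← h5]
    rw [show (P : Subgroup (Matrix.ProjectiveSpecialLinearGroup (Fin 2) F)) = (U : Subgroup N).map e.toMonoidHom from
      Sylow.coe_mapSurjective _ _, ← map_equiv_normalizer_eq]
    exact (index_map_equiv _ e).symm
  · have h := PSL2.card_psl_mul (F := F)
    rw [Nat.Coprime.gcd_eq_one (Nat.coprime_two_left.2 (Nat.Even.sub_odd (by omega) he' odd_one)), one_mul] at h
    simp only [Nat.card_eq_fintype_card (α := F)] at h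
    exact (Nat.card_congr e.toEquiv).trans h

theorem even_commute (hG : SubCA G) (hns : ¬ Group.IsSolvable G) {N : Subgroup G} [N.Normal] (hK : Kernel N)
    {F : Type} [Field F] [Fintype F] (h4 : 4 ≤ Fintype.card F) (he : Even (Fintype.card F))
    (e : N ≃* Matrix.ProjectiveSpecialLinearGroup (Fin 2) F) {x a b : G} (hx : x ∉ center G)
    (hax : Commute a x) (hbx : Commute b x) : Commute a b := by
  haveI := Fact.mk Nat.prime_two
  obtain ⟨U⟩ := (inferInstance : Nonempty (Sylow 2 N))
  obtain ⟨hUc, hUcent, hUab, hUidx, hNcard⟩ := even_facts h4 he e U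
  set q := Fintype.card F with hq
  set M := normalizer ((U : Subgroup N) : Set N) with hMdef
  set H := normalizer (((U : Subgroup N).map N.subtype : Subgroup G) : Set G) with hH
  have hMtop : M ≠ ⊤ := fun h => hK.ns (isSolvable_of_normal_sylow U (normalizer_eq_top_iff.1 h))
  have hHtop : H ≠ ⊤ := fun h => hMtop (eq_top_iff.2 fun n _ => mem_normalizer_iff.2 fun u => by
    have hn := mem_normalizer_iff.1 (h ▸ mem_top (n : G) : (n : G) ∈ H) (u : G)
    constructor
    · intro hu
      obtain ⟨v, hv, hve⟩ := hn.1 (mem_map_of_mem _ hu)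
      rwa [show n * u * n⁻¹ = v from Subtype.ext hve.symm]
    · intro hu
      obtain ⟨v, hv, hve⟩ := hn.2 ⟨_, hu, rfl⟩
      exact N.subtype_injective hve ▸ hv)
  have hMcard : Nat.card M = q * (q - 1) := by
    have h := M.card_mul_index
    rw [hUidx, hNcard, show q * ((q + 1) * (q - 1)) = q * (q - 1) * (q + 1) by ring] at h
    exact Nat.eq_of_mul_eq_mul_right (by omega) h
  haveI : Nontrivial (U : Subgroup N) := Finite.one_lt_card_iff_nontrivial.1 (by rw [hUc]; omega)
  obtain ⟨⟨u, hu⟩, hu1'⟩ := exists_ne (1 : (U : Subgroup N))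
  have hu1 : u ≠ 1 := fun h => hu1' (Subtype.ext h)
  -- transitivity of the normaliser
  have htrans : ∀ v ∈ (U : Subgroup N), v ≠ 1 → ∃ m ∈ M, m * u * m⁻¹ = v := by
    let f : M ⧸ (U : Subgroup N).subgroupOf M → {v : (U : Subgroup N) // v ≠ 1} :=
      Quotient.lift (fun m : M => (⟨⟨(m : N) * u * (m : N)⁻¹, (mem_normalizer_iff.1 m.2 u).1 hu⟩,
        fun h => hu1 (conj_eq_one_iff.1 (congrArg Subtype.val h))⟩ : {v : (U : Subgroup N) // v ≠ 1}))
        (fun m m' h => by
          have hm0 : m⁻¹ * m' ∈ (U : Subgroup N).subgroupOf M := QuotientGroup.leftRel_apply.1 h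
          have hm : ((m⁻¹ * m' : M) : N) ∈ (U : Subgroup N) := mem_subgroupOf.1 hm0
          refine Subtype.ext (Subtype.ext ?_)
          show (m : N) * u * (m : N)⁻¹ = (m' : N) * u * (m' : N)⁻¹
          rw [show (m' : N) = (m : N) * ((m⁻¹ * m' : M) : N) by simp]
          rw [show (m : N) * ((m⁻¹ * m' : M) : N) * u * ((m : N) * ((m⁻¹ * m' : M) : N))⁻¹ =
            (m : N) * (((m⁻¹ * m' : M) : N) * u * ((m⁻¹ * m' : M) : N)⁻¹) * (m : N)⁻¹ by group,
            (hUab _ hm u hu).eq, mul_inv_cancel_right])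
    have hf : Function.Injective f := by
      intro p p'
      induction p using QuotientGroup.induction_on with | _ m => ?_
      induction p' using QuotientGroup.induction_on with | _ m' => ?_
      intro h
      refine QuotientGroup.eq.2 (mem_subgroupOf.2 (hUcent u hu hu1 _ ?_))
      have h1 : (m : N) * u * (m : N)⁻¹ = (m' : N) * u * (m' : N)⁻¹ := congrArg (fun z : {v : (U : Subgroup N) // v ≠ 1} => ((z : (U : Subgroup N)) : N)) h
      refine mul_inv_eq_iff_eq_mul.1 ?_
      show (m : N)⁻¹ * (m' : N) * u * ((m : N)⁻¹ * (m' : N))⁻¹ = u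
      rw [show (m : N)⁻¹ * (m' : N) * u * ((m : N)⁻¹ * (m' : N))⁻¹ = (m : N)⁻¹ * ((m' : N) * u * (m' : N)⁻¹) * (m : N) by group, ← h1]
      group
    have hc : Nat.card (M ⧸ (U : Subgroup N).subgroupOf M) = q - 1 := by
      have h := ((U : Subgroup N).subgroupOf M).card_mul_index
      rw [hMcard, Nat.card_congr (subgroupOfEquivOfLe le_normalizer).toEquiv, hUc] at h
      rw [← index_eq_card]
      exact Nat.eq_of_mul_eq_mul_left (by omega) h
    have hc2 : Nat.card {v : (U : Subgroup N) // v ≠ 1} = q - 1 := by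
      classical
      have := Fintype.ofFinite (U : Subgroup N)
      rw [Nat.card_eq_fintype_card, Fintype.card_subtype_compl, Fintype.card_subtype_eq, ← Nat.card_eq_fintype_card]
      omega
    intro v hv hv1
    obtain ⟨p, hp⟩ := ((Nat.bijective_iff_injective_and_card f).2 ⟨hf, hc.trans hc2.symm⟩).2
      ⟨⟨v, hv⟩, fun h => hv1 (congrArg Subtype.val h)⟩
    induction p using QuotientGroup.induction_on with | _ m => ?_
    exact ⟨m, m.2, congrArg (fun z : {v : (U : Subgroup N) // v ≠ 1} => ((z : (U : Subgroup N)) : N)) hp⟩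
  have hMH : ∀ {m : N}, m ∈ M → (m : G) ∈ H := fun {m} hm => Coprime.mem_normalizer_of_forall fun z hz => by
    obtain ⟨v, hv, rfl⟩ := hz
    exact ⟨_, (mem_normalizer_iff.1 hm v).1 hv, rfl⟩
  obtain ⟨m₁, hm₁, hm₁u⟩ : ∃ m₁ ∈ M, ¬ Commute (u : G) (m₁ : N) := by
    haveI : Nontrivial M := Finite.one_lt_card_iff_nontrivial.1 (by
      rw [hMcard]; exact lt_of_lt_of_le (show 1 < q by omega) (Nat.le_mul_of_pos_right _ (by omega)))
    by_contra hcon
    push Not at hcon
    have hle : M ≤ (U : Subgroup N) := fun m hm => hUcent u hu hu1 m (Subtype.ext (hcon m hm).eq.symm)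
    have := Nat.le_of_dvd Nat.card_pos (card_dvd_of_le hle)
    rw [hMcard, hUc] at this
    nlinarith [show 2 ≤ q - 1 by omega]
  have huH : (u : G) ∈ H := le_normalizer (mem_map_of_mem _ hu)
  -- the normaliser is `M C(U)`
  have hsplit : ∀ h ∈ H, ∃ m ∈ M, ∀ v ∈ (U : Subgroup N), Commute ((m : G)⁻¹ * h) v := by
    intro h hh
    obtain ⟨v, hv, hve⟩ := (mem_normalizer_iff.1 hh (u : G)).1 (mem_map_of_mem _ hu)
    have hv1 : v ≠ 1 := fun e' => hu1 (Subtype.ext (conj_eq_one_iff.1
      ((show h * (u : G) * h⁻¹ = (v : G) from hve.symm).trans (by rw [e']; rfl))))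
    obtain ⟨m, hm, hmv⟩ := htrans v hv hv1
    refine ⟨m, hm, fun w hw => ?_⟩
    have hcu : Commute ((m : G)⁻¹ * h) u := mul_inv_eq_iff_eq_mul.1 (by
      rw [show (m : G)⁻¹ * h * u * ((m : G)⁻¹ * h)⁻¹ = (m : G)⁻¹ * (h * u * h⁻¹) * m by group,
        show h * (u : G) * h⁻¹ = (v : G) from hve.symm, ← hmv]
      simp only [coe_mul, coe_inv]; group)
    exact commute_in_cent hG hHtop huH (hMH hm₁) hm₁u (mul_mem (inv_mem (hMH hm)) hh)
      (le_normalizer (mem_map_of_mem _ hw)) hcu
      (show Commute (w : G) u from congrArg Subtype.val (hUab w hw u hu).eq)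
  -- elements centralising `U`
  have hcent : ∀ c : G, (∀ v ∈ (U : Subgroup N), Commute c v) → c ∈ N ⊔ center G := by
    intro c hc
    have hUfix : ∀ {d : G}, (∀ v ∈ (U : Subgroup N), Commute d v) →
        (U : Subgroup N).map (MulAut.conjNormal (H := N) d).toMonoidHom = U := fun {d} hd => by
      have hfix : ∀ v ∈ (U : Subgroup N), MulAut.conjNormal (H := N) d v = v := fun v hv => Subtype.ext (by
        rw [conjNormal_mk_coe, (hd v hv).eq, mul_inv_cancel_right])
      ext y
      constructor
      · rintro ⟨v, hv, rfl⟩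
        show MulAut.conjNormal (H := N) d v ∈ (U : Subgroup N)
        rw [hfix v hv]; exact hv
      · intro hy
        exact ⟨y, hy, hfix y hy⟩
    obtain ⟨g₀, hg₀⟩ : ∃ g₀ : N, g₀ ∉ M := SetLike.exists_not_mem_of_ne_top M hMtop rfl
    set U' : Sylow 2 N := g₀ • U with hU'
    have hne : U' ≠ U := fun h => hg₀ (Sylow.smul_eq_iff_mem_normalizer.1 h)
    have htr : ∀ V : Sylow 2 N, V ≠ U → ∃ v : N, v ∈ (U : Subgroup N) ∧ v • U' = V := by
      let f : ↥(U : Subgroup N) → {V : Sylow 2 N // V ≠ U} := fun v => ⟨(v : N) • U', fun h => hne (by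
        have h1 : (v : N)⁻¹ • U = U := Sylow.smul_eq_iff_mem_normalizer.2 (le_normalizer (inv_mem v.2))
        rw [← inv_smul_smul (v : N) U', h, h1])⟩
      have hf : Function.Injective f := by
        intro v w h
        have h1 : (v : N) • U' = (w : N) • U' := congrArg Subtype.val h
        have h2 : ((w : N)⁻¹ * v) ∈ normalizer (U' : Set N) :=
          Sylow.smul_eq_iff_mem_normalizer.1 (by rw [mul_smul, h1, inv_smul_smul])
        have h3 : (w : N)⁻¹ * v ∈ (U' : Subgroup N) := by
          have h4 : (w : N)⁻¹ * v ∈ (U : Subgroup N) ⊓ normalizer (U' : Set N) :=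
            ⟨(U : Subgroup N).mul_mem ((U : Subgroup N).inv_mem w.2) v.2, h2⟩
          rw [U.isPGroup'.inf_normalizer_sylow U'] at h4
          exact h4.2
        by_contra hvw
        have hd1 : (w : N)⁻¹ * v ≠ 1 := fun h5 => hvw (Subtype.ext (inv_mul_eq_one.1 h5).symm)
        refine hne (Sylow.ext (eq_of_le_of_card_ge (fun y hy => ?_) (U.equiv U' |> fun eq => (Nat.card_congr eq.toEquiv).le)))
        obtain ⟨-, -, hab', -, -⟩ := even_facts h4 he e U'
        exact hUcent _ (mul_mem (inv_mem w.2) v.2) hd1 y (hab' y hy _ h3)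
      have hcard : Nat.card {V : Sylow 2 N // V ≠ U} = q := by
        classical
        have := Fintype.ofFinite (Sylow 2 N)
        rw [Nat.card_eq_fintype_card, Fintype.card_subtype_compl, Fintype.card_subtype_eq, ← Nat.card_eq_fintype_card,
          Sylow.card_eq_index_normalizer U]
        show (normalizer ((U : Subgroup N) : Set N)).index - 1 = q
        rw [hUidx, Nat.add_sub_cancel]
      intro V hV
      obtain ⟨v, hv⟩ := ((Nat.bijective_iff_injective_and_card f).2 ⟨hf, hUc.trans hcard.symm⟩).2 ⟨V, hV⟩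
      exact ⟨v, v.2, congrArg Subtype.val hv⟩
    -- conjugation by `d` on the Sylow subgroups
    have hsmul : ∀ (d : G) (n : N) (V : Sylow 2 N), Commute d n →
        (((n • V : Sylow 2 N)) : Subgroup N).map (MulAut.conjNormal (H := N) d).toMonoidHom =
          ((V : Subgroup N).map (MulAut.conjNormal (H := N) d).toMonoidHom).map (MulAut.conj n).toMonoidHom := by
      intro d n V hdn
      rw [Sylow.coe_subgroup_smul]
      show ((V : Subgroup N).map (MulAut.conj n).toMonoidHom).map _ = _
      rw [Subgroup.map_map, Subgroup.map_map]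
      refine congrArg (fun φ => (V : Subgroup N).map φ) (MonoidHom.ext fun w => Subtype.ext ?_)
      show ((MulAut.conjNormal (H := N) d (n * w * n⁻¹) : N) : G) = ((n * MulAut.conjNormal (H := N) d w * n⁻¹ : N) : G)
      rw [conjNormal_mk_coe]
      simp only [coe_mul, coe_inv, conjNormal_mk_coe]
      rw [show d * ((n : G) * w * (n : G)⁻¹) * d⁻¹ = d * n * w * ((d * n : G))⁻¹ by group, hdn.eq]
      group
    let W' : Sylow 2 N := U'.mapSurjective (f := (MulAut.conjNormal (H := N) c).toMonoidHom) (MulEquiv.surjective _)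
    have hW' : W' ≠ U := fun h => hne (Sylow.ext (map_injective
      (f := (MulAut.conjNormal (H := N) c).toMonoidHom) (MulEquiv.injective _) (by
        rw [hUfix hc]; exact congrArg (fun V : Sylow 2 N => (V : Subgroup N)) h)))
    obtain ⟨v, hv, hvW⟩ := htr W' hW'
    set d := (v : G)⁻¹ * c with hd
    have hdU : ∀ w ∈ (U : Subgroup N), Commute d w := fun w hw =>
      ((show Commute (v : G) w from congrArg Subtype.val (hUab v hv w hw).eq).inv_left).mul_left (hc w hw)
    have hdU' : (U' : Subgroup N).map (MulAut.conjNormal (H := N) d).toMonoidHom = U' := by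
      have h1 : (U' : Subgroup N).map (MulAut.conjNormal (H := N) c).toMonoidHom =
          (U' : Subgroup N).map (MulAut.conj v).toMonoidHom := by
        show (W' : Subgroup N) = _
        rw [← hvW, Sylow.coe_subgroup_smul]; rfl
      have h2 : (MulAut.conjNormal (H := N) d).toMonoidHom =
          (MulAut.conj v⁻¹).toMonoidHom.comp (MulAut.conjNormal (H := N) c).toMonoidHom := MonoidHom.ext fun w => Subtype.ext (by
        show ((MulAut.conjNormal (H := N) d w : N) : G) = ((v⁻¹ * MulAut.conjNormal (H := N) c w * v⁻¹⁻¹ : N) : G)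
        simp only [coe_mul, coe_inv, conjNormal_mk_coe, hd]
        group)
      rw [h2, ← Subgroup.map_map, h1, Subgroup.map_map,
        show (MulAut.conj v⁻¹).toMonoidHom.comp (MulAut.conj v).toMonoidHom = MonoidHom.id N from
          MonoidHom.ext fun w => show v⁻¹ * (v * w * v⁻¹) * v⁻¹⁻¹ = w by group,
        Subgroup.map_id]
    have hall : ∀ V : Sylow 2 N, (V : Subgroup N).map (MulAut.conjNormal (H := N) d).toMonoidHom = V := by
      intro V
      by_cases hV : V = U
      · rw [hV]; exact hUfix hdU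
      · obtain ⟨w, hw, rfl⟩ := htr V hV
        rw [hsmul d w U' (hdU w hw), hdU', Sylow.coe_subgroup_smul]; rfl
    -- so `d` centralises `N`
    have hdN : ∀ n ∈ N, Commute d n := by
      intro n hn
      set n' : N := ⟨n, hn⟩
      set K := ⨅ V : Sylow 2 N, normalizer ((V : Subgroup N) : Set N) with hKdef
      have hKn : K.Normal := ⟨fun y hy g => by
        rw [hKdef, mem_iInf] at hy ⊢
        intro V
        have h1 := hy (g⁻¹ • V)
        refine Sylow.smul_eq_iff_mem_normalizer.1 ?_
        have h2 : y • (g⁻¹ • V) = g⁻¹ • V := Sylow.smul_eq_iff_mem_normalizer.2 h1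
        rw [mul_smul, mul_smul, h2, smul_inv_smul]⟩
      have hK1 : K = ⊥ := by
        haveI := PSL2.isSimpleGroup_psl (L := F) (by rwa [Nat.card_eq_fintype_card])
        haveI : IsSimpleGroup N := e.isSimpleGroup_congr.2 inferInstance
        refine (IsSimpleGroup.eq_bot_or_eq_top_of_normal K hKn).resolve_right fun h => hMtop ?_
        exact eq_top_iff.2 fun y _ => (mem_iInf.1 (h ▸ mem_top y : y ∈ K)) U
      have hmem : n'⁻¹ * MulAut.conjNormal (H := N) d n' ∈ K := by
        rw [hKdef, mem_iInf]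
        intro V
        refine Sylow.smul_eq_iff_mem_normalizer.1 (Sylow.ext ?_)
        rw [mul_smul, Sylow.coe_subgroup_smul, Sylow.coe_subgroup_smul]
        show ((V : Subgroup N).map (MulAut.conj (MulAut.conjNormal (H := N) d n')).toMonoidHom).map
          (MulAut.conj n'⁻¹).toMonoidHom = _
        have h1 : (V : Subgroup N).map (MulAut.conj (MulAut.conjNormal (H := N) d n')).toMonoidHom =
            (V : Subgroup N).map (MulAut.conj n').toMonoidHom := by
          nth_rw 1 [← hall V]
          rw [Subgroup.map_map,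
            show (MulAut.conj (MulAut.conjNormal (H := N) d n')).toMonoidHom.comp (MulAut.conjNormal (H := N) d).toMonoidHom =
              (MulAut.conjNormal (H := N) d).toMonoidHom.comp (MulAut.conj n').toMonoidHom from
              MonoidHom.ext fun w => show MulAut.conjNormal (H := N) d n' * MulAut.conjNormal (H := N) d w * (MulAut.conjNormal (H := N) d n')⁻¹ =
                MulAut.conjNormal (H := N) d (n' * w * n'⁻¹) by
                  rw [map_mul (MulAut.conjNormal (H := N) d) (n' * w), map_mul (MulAut.conjNormal (H := N) d) n',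
                    map_inv (MulAut.conjNormal (H := N) d) n'],
            ← Subgroup.map_map]
          exact hall (n' • V)
        rw [h1, Subgroup.map_map,
          show (MulAut.conj n'⁻¹).toMonoidHom.comp (MulAut.conj n').toMonoidHom = MonoidHom.id N from
            MonoidHom.ext fun w => show n'⁻¹ * (n' * w * n'⁻¹) * n'⁻¹⁻¹ = w by group,
          Subgroup.map_id]
      rw [hK1, mem_bot, inv_mul_eq_one] at hmem
      have h2 : n = d * n * d⁻¹ := (congrArg Subtype.val hmem).trans (conjNormal_mk_coe d n')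
      exact mul_inv_eq_iff_eq_mul.1 h2.symm
    have hdZ : d ∈ center G := mem_center_of_centralizes hG hK.ns hdN
    rw [show c = (v : G) * d by rw [hd, mul_inv_cancel_left]]
    exact mul_mem (mem_sup_left v.2) (mem_sup_right hdZ)
  have hall : ∀ g : G, g ∈ N ⊔ center G := by
    intro g
    obtain ⟨h, hh, n, hn, hhn⟩ := mem_sup_of_normal_right.1
      ((Sylow.normalizer_sup_eq_top U).symm ▸ mem_top g : g ∈ H ⊔ N)
    obtain ⟨m, hm, hmc⟩ := hsplit h hh
    rw [← hhn, show h = (m : G) * ((m : G)⁻¹ * h) by group]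
    exact mul_mem (mul_mem (mem_sup_left m.2) (hcent _ hmc)) (mem_sup_left hn)
  -- every centraliser is abelian
  obtain ⟨nx, hnx, zx, hzx, hxe⟩ := mem_sup_of_normal_right.1 (hall x)
  obtain ⟨na, hna, za, hza, hae⟩ := mem_sup_of_normal_right.1 (hall a)
  obtain ⟨nb, hnb, zb, hzb, hbe⟩ := mem_sup_of_normal_right.1 (hall b)
  have hred : ∀ {c z n : G}, z ∈ center G → Commute c (n * z) → Commute c n := fun {c z n} hz h => by
    have h1 := h.mul_right (show Commute c z from mem_center_iff.1 hz c).inv_right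
    rwa [mul_inv_cancel_right] at h1
  have h1 : Commute na nx := (hred hza (hred hzx (hxe.symm ▸ hae.symm ▸ hax : Commute (na * za) (nx * zx))).symm).symm
  have h2 : Commute nb nx := (hred hzb (hred hzx (hxe.symm ▸ hbe.symm ▸ hbx : Commute (nb * zb) (nx * zx))).symm).symm
  have hnx1 : (⟨nx, hnx⟩ : N) ≠ 1 := fun h => hx (by
    rw [← hxe, show nx = 1 from congrArg Subtype.val h, one_mul]; exact hzx)
  have h3 : Commute (⟨na, hna⟩ : N) ⟨nb, hnb⟩ := by
    have h := psl_commute_even (F := F) (by rwa [Nat.card_eq_fintype_card]) (by rwa [Nat.card_eq_fintype_card])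
      (a := e ⟨na, hna⟩) (b := e ⟨nx, hnx⟩) (c := e ⟨nb, hnb⟩) (fun h => hnx1 (e.injective (h.trans (map_one e).symm)))
      ((show Commute (⟨na, hna⟩ : N) ⟨nx, hnx⟩ from Subtype.ext h1.eq).map e.toMonoidHom)
      ((show Commute (⟨nx, hnx⟩ : N) ⟨nb, hnb⟩ from Subtype.ext h2.symm.eq).map e.toMonoidHom)
    exact e.injective (by rw [map_mul, map_mul]; exact h.eq)
  rw [← hae, ← hbe]
  have hab : Commute na nb := congrArg Subtype.val h3.eq
  exact (hab.mul_right (mem_center_iff.1 hzb na)).mul_left (mem_center_iff.1 hza (nb * zb)).symm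

theorem odd_conditions {F : Type} [Field F] [Fintype F] (hG : SubCA G)
    (h8 : Fintype.card F % 8 = 3 ∨ Fintype.card F % 8 = 5) (h7 : 7 ≤ Fintype.card F)
    (e : G ≃* Matrix.ProjectiveSpecialLinearGroup (Fin 2) F) :
    ((Fintype.card F).Prime ∧ 5 < Fintype.card F ∧ ¬ 16 ∣ Fintype.card F ^ 2 - 1) ∨
      (∃ p : ℕ, p.Prime ∧ p ≠ 2 ∧ (Fintype.card F = 3 ^ p ∨ Fintype.card F = 5 ^ p)) := by
  obtain ⟨p, hp⟩ := CharP.exists F
  haveI : Fact p.Prime := ⟨CharP.char_is_prime F p⟩
  obtain ⟨f, -, hf⟩ := FiniteField.card F p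
  by_cases hf1 : (f : ℕ) = 1
  · refine Or.inl ⟨by rw [hf, hf1, pow_one]; exact Fact.out, by omega, fun h16 => ?_⟩
    obtain ⟨m, hm⟩ : ∃ m, Fintype.card F = 8 * m + 3 ∨ Fintype.card F = 8 * m + 5 := ⟨Fintype.card F / 8, by omega⟩
    rcases hm with hm | hm
    · rw [hm, show (8 * m + 3) ^ 2 = 16 * (4 * m * m + 3 * m) + 9 by ring] at h16; omega
    · rw [hm, show (8 * m + 5) ^ 2 = 16 * (4 * m * m + 5 * m + 1) + 9 by ring] at h16; omega
  · obtain ⟨r, hr, hrd⟩ := Nat.exists_prime_and_dvd hf1
    obtain ⟨j, hj⟩ := hrd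
    have hj0 : j ≠ 0 := fun h => f.ne_zero (by rw [hj, h, mul_zero])
    let iK : Fintype (GaloisField p j) := Fintype.ofFinite _
    have hKcard : Nat.card (GaloisField p j) = p ^ j := GaloisField.card p j hj0
    have hpow : Nat.card (GaloisField p j) ^ r = Nat.card F := by
      rw [hKcard, Nat.card_eq_fintype_card, hf, hj, ← pow_mul, mul_comm]
    obtain ⟨H, ⟨eH⟩⟩ := PSL2.exists_psl_subfield_sub (F := F) hpow
    have hlt : Nat.card (GaloisField p j) < Nat.card F := by
      rw [hKcard, Nat.card_eq_fintype_card, hf]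
      exact Nat.pow_lt_pow_right (Fact.out : p.Prime).one_lt (by
        rw [hj]; exact lt_mul_left (Nat.pos_of_ne_zero hj0) hr.one_lt)
    have hKsmall : Nat.card (GaloisField p j) < 7 := by
      by_contra h
      have hodd : Odd (Nat.card (GaloisField p j)) := by
        refine (odd_card_of_mod_eight (F := F) (by rwa [Nat.card_eq_fintype_card])).of_dvd_nat ?_
        rw [← hpow]; exact dvd_pow_self _ hr.ne_zero
      obtain ⟨x, a, b, hx1, hax, hbx, hab⟩ := exists_nonabelian_centralizer (by omega) hodd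
      have hHtop : H.map e.symm.toMonoidHom ≠ ⊤ := fun h' => by
        have h1 : Nat.card H = Nat.card G := by
          rw [← card_top (G := G), ← h', card_map_of_injective e.symm.injective]
        rw [Nat.card_congr eH.toEquiv, Nat.card_congr e.toEquiv] at h1
        exact hlt.ne (PSL2.card_psl_inj (L := GaloisField p j) (L' := F) p h1)
      let ι : PSL2.PSL2 (GaloisField p j) →* G :=
        e.symm.toMonoidHom.comp (H.subtype.comp eH.symm.toMonoidHom)
      have hι : Function.Injective ι := e.symm.injective.comp (H.subtype_injective.comp eH.symm.injective)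
      have hmem : ∀ y, ι y ∈ H.map e.symm.toMonoidHom := fun y => mem_map_of_mem _ (eH.symm y).2
      obtain ⟨n, hn⟩ : ∃ n, ¬ Commute x n := by
        by_contra hcon
        push Not at hcon
        haveI := PSL2.isSimpleGroup_psl (L := GaloisField p j) (by omega)
        rcases (inferInstance : (center (PSL2.PSL2 (GaloisField p j))).Normal).eq_bot_or_eq_top with h' | h'
        · exact hx1 (mem_bot.1 (h' ▸ mem_center_iff.2 fun y => (hcon y).eq.symm : x ∈ (⊥ : Subgroup _)))
        · exact PSL2.not_comm_psl (L := GaloisField p j) (by omega) fun y z =>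
            mem_center_iff.1 (h' ▸ mem_top z) y
      exact hab (Commute.of_map hι (commute_in_cent hG hHtop (hmem x) (hmem n) (fun h' => hn (Commute.of_map hι h'))
        (hmem a) (hmem b) (hax.map ι) (hbx.map ι)))
    rw [hKcard] at hKsmall
    have hp2 : p ≠ 2 := fun h => by
      have : 2 ∣ Fintype.card F := by rw [hf, h]; exact dvd_pow_self 2 f.ne_zero
      omega
    have hp3 : 3 ≤ p := lt_of_le_of_ne (Fact.out : p.Prime).two_le (Ne.symm hp2)
    have hj1 : j = 1 := by
      by_contra h
      have : p ^ 2 ≤ p ^ j := Nat.pow_le_pow_right (by omega) (by omega)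
      nlinarith
    subst hj1
    rw [pow_one] at hKsmall
    refine Or.inr ⟨r, hr, fun h2 => ?_, ?_⟩
    · have : Fintype.card F = p * p := by rw [hf, hj, h2, mul_one, pow_two]
      interval_cases p <;> omega
    · have : Fintype.card F = p ^ r := by rw [hf, hj, mul_one]
      interval_cases p
      · exact Or.inl this
      · exact absurd (Fact.out : Nat.Prime 4) (by decide)
      · exact Or.inr this
      · exact absurd (Fact.out : Nat.Prime 6) (by decide)

end Cfsg.Agent.MinNonCA
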