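import Cfsg.Agent.Lib.MinNonCA.PSLFacts
import Cfsg.Agent.Lib.MinNonCA.Basic
import Cfsg.Agent.Lib.PSL2.Subgroups
import Cfsg.Agent.Lib.Linear.PSLTwoSmall

/-!
# `PSL(2, q)` of the statement is a minimal non-CA group

* `subCA_psl`
-/

set_option autoImplicit false
set_option linter.style.haveILetI false
set_option linter.unusedSectionVars false

namespace Cfsg.Agent.MinNonCA

open Subgroup MulAction Matrix Cfsg.Agent.PSL2

/-- Noncentral elements have abelian centralisers. -/
def IsCAProp (K : Type*) [Group K] : Prop :=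
  ∀ x n a b : K, ¬ Commute x n → Commute a x → Commute b x → Commute a b

theorem IsCAProp.of_injective {K L : Type*} [Group K] [Group L] (h : IsCAProp L) (f : K →* L)
    (hf : Function.Injective f) : IsCAProp K := fun x n a b hn ha hb =>
  Commute.of_map hf (h (f x) (f n) (f a) (f b) (fun e => hn (Commute.of_map hf e)) (ha.map f) (hb.map f))

theorem isCAProp_dihedral (k : ℕ) : IsCAProp (DihedralGroup k) := by
  intro x n a b hn ha hb
  unfold Commute SemiconjBy at hn ha hb ⊢
  rcases x with i | i <;> rcases n with j | j <;> rcases a with l | l <;> rcases b with m | m <;>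
    simp only [DihedralGroup.r_mul_r, DihedralGroup.r_mul_sr, DihedralGroup.sr_mul_r, DihedralGroup.sr_mul_sr,
      DihedralGroup.r.injEq, DihedralGroup.sr.injEq] at hn ha hb ⊢ <;>
    first
      | exact absurd (by linear_combination (0 : ZMod k) * ha) hn
      | linear_combination (0 : ZMod k) * ha
      | linear_combination ha
      | linear_combination -ha
      | linear_combination hb
      | linear_combination -hb
      | exact absurd (by linear_combination ha) hn
      | exact absurd (by linear_combination -ha) hn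
      | exact absurd (by linear_combination hb) hn
      | exact absurd (by linear_combination -hb) hn
      | linear_combination ha - hb
      | linear_combination hb - ha
      | linear_combination ha + hb
      | linear_combination -ha - hb

theorem isCAProp_altFive : IsCAProp (alternatingGroup (Fin 5)) := by
  haveI : Fact (Nat.Prime 2) := ⟨Nat.prime_two⟩
  have h4 : Nat.card (GaloisField 2 2) = 4 := by rw [GaloisField.card 2 2 two_ne_zero]; rfl
  obtain ⟨e⟩ := Linear.nonempty_pslTwo_four h4
  refine IsCAProp.of_injective (L := PSL2 (GaloisField 2 2)) ?_ e.symm.toMonoidHom e.symm.injective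
  intro x n a b hn ha hb
  exact psl_commute_even h4.ge (by rw [h4]; decide) (fun h => hn (by rw [h]; exact Commute.one_left n)) ha hb.symm

theorem isCAProp_altFour : IsCAProp (alternatingGroup (Fin 4)) := by
  obtain ⟨f, hf⟩ := exists_altFour_in_altFive
  exact isCAProp_altFive.of_injective f hf

variable {F : Type*} [Field F] [Finite F]

theorem commute_char (p : ℕ) [Fact p.Prime] [CharP F p] {x y z : PSL2 F} (hx : orderOf x = p)
    (hy : Commute y x) (hz : Commute z x) : Commute y z := by
  let φ : PSL2 F →* PGL2 F := ProjectiveSpecialLinearGroup.toPGL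
  have hinj : Function.Injective φ := ProjectiveSpecialLinearGroup.toPGL_injective
  have hx1 : φ x ≠ 1 := fun e => by
    rw [← map_one φ] at e
    rw [hinj e, orderOf_one] at hx
    exact (Fact.out : p.Prime).ne_one hx.symm
  have hxp : φ x ^ p = 1 := by rw [← map_pow, orderOf_dvd_iff_pow_eq_one.1 hx.dvd, map_one]
  obtain ⟨P, hP⟩ := exists_fix_of_pow_char p (z := x) (orderOf_dvd_iff_pow_eq_one.1 hx.dvd)
  rw [← toPGL_smul] at hP
  obtain ⟨k, hk⟩ := exists_map_pinf P
  have hk' : k⁻¹ • (pinf : Pt F) = P := by rw [← hk, inv_smul_smul]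
  obtain ⟨a, c, hac⟩ := exists_aff_of_fix (g := k * φ x * k⁻¹)
    (by rw [mul_smul, mul_smul, hk', hP, hk])
  have ha : a = 1 := (aff_pow_char_iff p).1 (by rw [← hac, conj_pow, hxp, mul_one, mul_inv_cancel])
  subst ha
  have hc : c ≠ 0 := by
    rintro rfl
    rw [aff_one_zero, mul_inv_eq_one, mul_eq_left] at hac
    exact hx1 hac
  have key : ∀ w, Commute w x → ∃ b : F, k * φ w * k⁻¹ = aff 1 b := by
    intro w hw
    have hwx : φ w * φ x = φ x * φ w := (hw.map φ).eq
    have hwP : φ w • P = P := eq_of_fix_pow_char p hx1 hxp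
      (by rw [← mul_smul, ← hwx, mul_smul, hP]) hP
    obtain ⟨a, b, hab⟩ := exists_aff_of_fix (g := k * φ w * k⁻¹)
      (by rw [mul_smul, mul_smul, hk', hwP, hk])
    have h : aff a b * aff 1 c = aff 1 c * aff a b := by
      rw [← hab, ← hac]
      calc k * φ w * k⁻¹ * (k * φ x * k⁻¹) = k * (φ w * φ x) * k⁻¹ := by group
        _ = k * (φ x * φ w) * k⁻¹ := by rw [hwx]
        _ = _ := by group
    rw [aff_mul_aff, aff_mul_aff, aff_inj] at h
    have ha : a = 1 := by
      apply Units.ext
      have h' := h.2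
      rw [Units.val_one] at h' ⊢
      exact mul_right_cancel₀ hc (by linear_combination h')
    exact ⟨b, ha ▸ hab⟩
  obtain ⟨b, hb⟩ := key y hy
  obtain ⟨b', hb'⟩ := key z hz
  have h : Commute (k * φ y * k⁻¹) (k * φ z * k⁻¹) := by
    rw [hb, hb']
    show aff (1 : Fˣ) b * aff 1 b' = aff 1 b' * aff 1 b
    rw [aff_mul_aff, aff_mul_aff, aff_inj]; exact ⟨rfl, by simp [add_comm]⟩
  have h2 : Commute (φ y) (φ z) := by simpa [mul_assoc] using h.map (MulAut.conj k⁻¹).toMonoidHom
  exact Commute.of_map hinj h2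

/-- Proper subgroups of `PSL(2, q)`, `q ≡ 3, 5 mod 8` with subfields of order three or five only, are CA-groups. -/
theorem subCA_psl (h8 : Nat.card F % 8 = 3 ∨ Nat.card F % 8 = 5) (h7 : 7 ≤ Nat.card F)
    (hsub : ∀ r m : ℕ, r ^ m = Nat.card F → r = 3 ∨ r = 5 ∨ r = Nat.card F) : SubCA (PSL2 F) := by
  obtain ⟨p, hp⟩ := CharP.exists F
  haveI : Fact p.Prime := ⟨CharP.char_is_prime F p⟩
  have hodd := odd_card_of_mod_eight h8
  have hpcard : ¬ p ∣ Nat.card F - 1 ∧ ¬ p ∣ Nat.card F + 1 := by
    have := Fintype.ofFinite F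
    obtain ⟨f, -, hf⟩ := FiniteField.card F p
    have hpq : p ∣ Nat.card F := by rw [Nat.card_eq_fintype_card, hf]; exact dvd_pow_self p f.ne_zero
    refine ⟨fun h => (Fact.out : p.Prime).not_dvd_one ?_, fun h => (Fact.out : p.Prime).not_dvd_one ?_⟩
    · have := Nat.dvd_sub hpq h
      rwa [show Nat.card F - (Nat.card F - 1) = 1 by omega] at this
    · have := Nat.dvd_sub h hpq
      rwa [show Nat.card F + 1 - Nat.card F = 1 by omega] at this
  intro H hH x hx
  obtain ⟨n, hn⟩ : ∃ n : H, ¬ Commute x n := by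
    by_contra hcon
    push Not at hcon
    exact hx (mem_center_iff.2 fun y => (hcon y).eq.symm)
  suffices key : ∀ a b : H, Commute a x → Commute b x → Commute a b from
    ⟨⟨fun a b => Subtype.ext (key a b (mem_centralizer_singleton_iff.1 a.2) (mem_centralizer_singleton_iff.1 b.2)).eq⟩⟩
  intro a b ha hb
  have ha' := ha.map H.subtype
  have hb' := hb.map H.subtype
  have hx1 : (x : PSL2 F) ≠ 1 := fun e => hn (by
    rw [show x = 1 from Subtype.ext e]; exact Commute.one_left n)
  by_cases hx2 : orderOf (x : PSL2 F) = 2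
  swap
  · refine Commute.of_map H.subtype_injective ?_
    by_cases hxp : orderOf (x : PSL2 F) ∣ p
    · exact commute_char p (((Nat.dvd_prime Fact.out).1 hxp).resolve_left fun e => hx1 (orderOf_eq_one_iff.1 e))
        ha' hb'
    · have hx3 : 3 ≤ orderOf (x : PSL2 F) := by
        have h0 := orderOf_pos (x : PSL2 F)
        have h1 : orderOf (x : PSL2 F) ≠ 1 := fun e => hx1 (orderOf_eq_one_iff.1 e)
        omega
      obtain ⟨y, -, hy, -⟩ := centralizer_torus p hxp hx3
      have hmem : ∀ {c : PSL2 F}, Commute c x → c ∈ zpowers y := fun {c} hc => hy ▸ mem_centralizer_singleton_iff.2 hc.eq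
      obtain ⟨i, hi⟩ := mem_zpowers_iff.1 (hmem ha')
      obtain ⟨j, hj⟩ := mem_zpowers_iff.1 (hmem hb')
      rw [← hi, ← hj]
      exact (Commute.refl y).zpow_zpow i j
  rcases psl_dickson p H with ⟨-, S, hS⟩ | ⟨-, hc, -⟩ | ⟨m, -, -, -, -, -, ⟨e⟩⟩ |
    ⟨-, he | he | he⟩ | ⟨-, -, ⟨e⟩⟩ | ⟨R, m, hm, hR, he | ⟨-, hme, -⟩⟩
  · -- inside a point stabiliser
    obtain ⟨P, hP⟩ := normalizer_sylow_le p S
    refine Commute.of_map H.subtype_injective ?_
    have hc := commutator_pow_char p (P := P) (x := (a : PSL2 F)) (y := (b : PSL2 F)) (hP (hS a.2)) (hP (hS b.2))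
    set c := (a : PSL2 F) * b * (a : PSL2 F)⁻¹ * (b : PSL2 F)⁻¹ with hcdef
    have hcx : c ∈ centralizer ({(x : PSL2 F)} : Set (PSL2 F)) :=
      mem_centralizer_singleton_iff.2 (((ha'.mul_left hb').mul_left ha'.inv_left).mul_left hb'.inv_left).eq
    obtain ⟨h1, h3⟩ := card_centralizer_involution hodd hx2
    have hcard : ¬ p ∣ Nat.card (centralizer ({(x : PSL2 F)} : Set (PSL2 F))) := by
      rcases (show Nat.card F % 4 = 1 ∨ Nat.card F % 4 = 3 by omega) with h | h
      · rw [h1 h]; exact hpcard.1
      · rw [h3 h]; exact hpcard.2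
    have hc1 : c = 1 := orderOf_eq_one_iff.1 (Nat.eq_one_of_dvd_coprimes
      ((Fact.out : p.Prime).coprime_iff_not_dvd.2 hcard) (orderOf_dvd_of_pow_eq_one hc)
      (orderOf_dvd_natCard _ hcx))
    show (a : PSL2 F) * b = b * a
    rwa [hcdef, mul_inv_eq_one, mul_inv_eq_iff_eq_mul] at hc1
  · haveI := hc
    exact Commute.of_map H.subtype_injective ((IsCyclic.commGroup.mul_comm a b : a * b = b * a) |> fun h =>
      (show Commute a b from h).map H.subtype)
  · exact (isCAProp_dihedral m).of_injective e.toMonoidHom e.injective x n a b hn ha hb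
  · obtain ⟨e⟩ := he
    exact isCAProp_altFour.of_injective e.toMonoidHom e.injective x n a b hn ha hb
  · exfalso
    obtain ⟨e⟩ := he
    obtain ⟨o, ho, hcard⟩ := two_part h8
    have h24 := card_subgroup_dvd_card H
    rw [Nat.card_congr e.toEquiv, card_perm_four, hcard] at h24
    have h8 : 4 * 2 ∣ 4 * o := (show 4 * 2 ∣ 24 by norm_num).trans h24
    exact absurd (Nat.dvd_of_mul_dvd_mul_left (by norm_num) h8) (Nat.two_dvd_ne_zero.2 (Nat.odd_iff.1 ho))
  · obtain ⟨e⟩ := he
    exact isCAProp_altFive.of_injective e.toMonoidHom e.injective x n a b hn ha hb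
  · exact isCAProp_altFive.of_injective e.toMonoidHom e.injective x n a b hn ha hb
  · obtain ⟨e⟩ := he
    rcases hsub _ _ hR with h | h | h
    · obtain ⟨f⟩ := Linear.nonempty_pslTwo_three (F := R) h
      exact isCAProp_altFour.of_injective (e.trans f).toMonoidHom (e.trans f).injective x n a b hn ha hb
    · have := Fintype.ofFinite R
      rw [Nat.card_eq_fintype_card] at h
      obtain ⟨f⟩ := Linear.nonempty_pslTwo_five (F := R) h
      exact isCAProp_altFive.of_injective (e.trans f).toMonoidHom (e.trans f).injective x n a b hn ha hb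
    · exact absurd (eq_top_of_card_eq H ((Nat.card_congr e.toEquiv).trans (card_psl_congr h))) hH
  · exfalso
    obtain ⟨j, hj⟩ := hme
    rw [hj, pow_add] at hR
    have h2 : ∀ u : ℕ, u * u % 8 ≠ 3 ∧ u * u % 8 ≠ 5 := fun u => by
      rw [Nat.mul_mod]
      have := Nat.mod_lt u (show 8 > 0 by norm_num)
      interval_cases hu : u % 8 <;> norm_num
    rw [← hR] at h8
    exact h8.elim (h2 _).1 (h2 _).2

end Cfsg.Agent.MinNonCA
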