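import Cfsg.Agent.Lib.MinNonCA.NonAb

/-!
# The core is central

* `pPrimeCore_le_center` : `O(G) ≤ Z(G)`
* `le_center_of_odd_mod_center` : normal subgroups of odd order modulo the centre are central
-/

set_option autoImplicit false
set_option linter.style.haveILetI false
set_option linter.unusedSectionVars false

namespace Cfsg.Agent.MinNonCA

open Subgroup
open scoped commutatorElement

universe u

variable {G : Type u} [Group G] [Finite G]

omit [Finite G] in
theorem conj_pow_of_fixed {t u c : G} (h : t * u * t⁻¹ = c * u) (hc : Commute t c) (n : ℕ) :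
    t ^ n * u * (t ^ n)⁻¹ = c ^ n * u := by
  induction n with
  | zero => simp
  | succ n ih =>
    rw [pow_succ' t, show t * t ^ n * u * (t * t ^ n)⁻¹ = t * (t ^ n * u * (t ^ n)⁻¹) * t⁻¹ by group, ih,
      show t * (c ^ n * u) * t⁻¹ = t * c ^ n * u * t⁻¹ by group, (hc.pow_right n).eq,
      show c ^ n * t * u * t⁻¹ = c ^ n * (t * u * t⁻¹) by group, h, ← mul_assoc, ← pow_succ]

omit [Finite G] in
theorem eq_one_of_odd_pow {c : G} (ho : Odd (orderOf c)) {k : ℕ} (h : c ^ 2 ^ k = 1) : c = 1 :=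
  orderOf_eq_one_iff.1 (Nat.eq_one_of_dvd_coprimes ((Nat.coprime_two_right.2 ho).pow_right k) dvd_rfl
    (orderOf_dvd_of_pow_eq_one h))

theorem exists_two_pow (T : Sylow 2 G) {t : G} (ht : t ∈ (T : Subgroup G)) : ∃ k, t ^ 2 ^ k = 1 := by
  obtain ⟨k, hk⟩ := T.isPGroup' ⟨t, ht⟩
  exact ⟨k, by simpa using congrArg Subtype.val hk⟩

theorem exists_class_two {R : Subgroup G} [R.Normal] (hR : Group.IsSolvable R) (h : ¬ R ≤ center G) :
    ∃ V : Subgroup G, V.Normal ∧ V ≤ R ∧ ¬ V ≤ center G ∧ ⁅V, V⁆ ≤ center G := by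
  obtain ⟨V, ⟨hVn, hVR, hVZ⟩, hmin⟩ :=
    (Set.toFinite {V : Subgroup G | V.Normal ∧ V ≤ R ∧ ¬ V ≤ center G}).exists_minimal ⟨R, inferInstance, le_rfl, h⟩
  haveI := hVn
  refine ⟨V, hVn, hVR, hVZ, by_contra fun hc => ?_⟩
  have hle : ⁅V, V⁆ ≤ V := commutator_le_self V
  have heq : V ≤ ⁅V, V⁆ := hmin ⟨Subgroup.commutator_normal V V, hle.trans hVR, hc⟩ hle
  haveI : Group.IsPerfect V := ⟨by
    refine map_injective (subtype_injective V) ?_
    rw [Subgroup.map_subtype_commutator, ← MonoidHom.range_eq_map, range_subtype]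
    exact le_antisymm hle heq⟩
  haveI : Nontrivial V := (nontrivial_iff_ne_bot _).2 fun e => hVZ (e ▸ bot_le)
  haveI := hR
  exact Group.IsPerfect.not_isSolvable V (Solvable.isSolvable_of_le hVR)

section

variable (hG : SubCA G) (hns : ¬ Group.IsSolvable G) (T : Sylow 2 G) {V : Subgroup G} [V.Normal]
    (hodd : Odd (Nat.card V)) (hVV : ⁅V, V⁆ ≤ center G)
include hG hns hodd hVV

omit hG hns hodd in
theorem commutator_mem_center {a b : G} (ha : a ∈ V) (hb : b ∈ V) : a * b * a⁻¹ * b⁻¹ ∈ center G :=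
  hVV (commutator_mem_commutator ha hb)

theorem sup_sylow_ne_top : V ⊔ (T : Subgroup G) ≠ ⊤ := by
  haveI := Fact.mk Nat.prime_two
  exact ne_top_of_isSolvable hns (isSolvable_sup_normal (isSolvable_of_odd_card hodd)
    (Solvable.isSolvable_of_isPGroup T.isPGroup'))

theorem fixed_centralized {t : G} (ht : t ∈ (T : Subgroup G)) (htK : ∃ u ∈ V, ¬ Commute t u) {v : G}
    (hv : v ∈ V) (htv : Commute t v) {s : G} (hs : s ∈ (T : Subgroup G)) : Commute s v := by
  by_contra hsv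
  obtain ⟨u, hu, htu⟩ := htK
  have hVn : V.Normal := inferInstance
  set c := t * u * t⁻¹ * u⁻¹ with hc
  have hcV : c ∈ V := mul_mem (hVn.conj_mem u hu t) (inv_mem hu)
  have hu' : t * u * t⁻¹ = c * u := by rw [hc]; group
  have hcv : Commute c v := by
    have hz := commutator_mem_center hVV hu hv
    have h1 : t * (u * v * u⁻¹ * v⁻¹) * t⁻¹ = u * v * u⁻¹ * v⁻¹ := by
      rw [mem_center_iff.1 hz t, mul_inv_cancel_right]
    have h2 : t * v * t⁻¹ = v := by rw [htv.eq, mul_inv_cancel_right]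
    have h3 : t * u * t⁻¹ * (t * v * t⁻¹) * (t * u * t⁻¹)⁻¹ * (t * v * t⁻¹)⁻¹ = u * v * u⁻¹ * v⁻¹ := by
      rw [← h1]; group
    rw [h2] at h3
    have h4 : t * u * t⁻¹ * v * (t * u * t⁻¹)⁻¹ = u * v * u⁻¹ := mul_right_cancel h3
    rw [hu'] at h4
    show c * v = v * c
    have h5 : c * (u * v * u⁻¹) * c⁻¹ = u * v * u⁻¹ :=
      calc _ = c * u * v * (c * u)⁻¹ := by group
        _ = _ := h4
    have hz' : u * v * u⁻¹ * v⁻¹ ∈ center G := hz
    calc c * v = c * ((u * v * u⁻¹ * v⁻¹)⁻¹ * (u * v * u⁻¹)) := by group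
      _ = (u * v * u⁻¹ * v⁻¹)⁻¹ * (c * (u * v * u⁻¹) * c⁻¹) * c := by
        rw [← mul_assoc, mem_center_iff.1 (inv_mem hz') c]; group
      _ = v * c := by rw [h5]; group
  have h := commute_in_cent hG (sup_sylow_ne_top hG hns T hodd hVV) (mem_sup_left hv) (mem_sup_right hs)
    (fun e => hsv e.symm) (mem_sup_right ht) (mem_sup_left hcV) htv hcv
  obtain ⟨k, hk⟩ := exists_two_pow T ht
  have e := conj_pow_of_fixed hu' h (2 ^ k)
  rw [hk, one_mul, inv_one, mul_one, eq_comm, mul_eq_right] at e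
  have hc1 : c = 1 := eq_one_of_odd_pow
    (hodd.of_dvd_nat ((Subgroup.orderOf_mk c hcV).symm.dvd.trans (orderOf_dvd_natCard _))) e
  exact htu (mul_inv_eq_iff_eq_mul.1 (by rw [hu', hc1, one_mul]))

theorem inverting_mul {t t' : G} (ht : t ∈ (T : Subgroup G)) (ht' : t' ∈ (T : Subgroup G))
    (h : ∃ u ∈ V, ¬ Commute t u) (h' : ∃ u ∈ V, ¬ Commute t' u)
    (h2 : ∀ u ∈ V, Commute (t * t) u) (h2' : ∀ u ∈ V, Commute (t' * t') u) :
    ∀ u ∈ V, Commute (t' * t) u := by
  have hVn : V.Normal := inferInstance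
  have key : ∀ t ∈ (T : Subgroup G), (∃ u ∈ V, ¬ Commute t u) → (∀ u ∈ V, Commute (t * t) u) → ∀ u ∈ V,
      ∃ c ∈ V, t * u * t⁻¹ = u⁻¹ * c ∧ ∀ s ∈ (T : Subgroup G), Commute s c := by
    intro t ht h h2 u hu
    set c := u * (t * u * t⁻¹) with hc
    have hcV : c ∈ V := mul_mem hu (hVn.conj_mem u hu t)
    set u1 := t * u * t⁻¹ with hu1
    have hu1V : u1 ∈ V := hVn.conj_mem u hu t
    have hz := commutator_mem_center hVV hu1V hu
    set z := u1 * u * u1⁻¹ * u⁻¹ with hzdef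
    have htc : t * c * t⁻¹ = z * c := by
      have : t * t * u * (t * t)⁻¹ = u := by rw [(h2 u hu).eq, mul_inv_cancel_right]
      calc t * c * t⁻¹ = u1 * (t * t * u * (t * t)⁻¹) := by rw [hc, hu1]; group
        _ = z * c := by rw [this, hzdef, hc]; group
    have htz : Commute t z := mem_center_iff.1 hz t
    have e := conj_pow_of_fixed htc htz 2
    rw [pow_two, (h2 c hcV).eq, mul_inv_cancel_right, eq_comm, mul_eq_right] at e
    have hzV : z ∈ V := mul_mem (mul_mem (mul_mem hu1V hu) (inv_mem hu1V)) (inv_mem hu)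
    have hz1 : z = 1 := eq_one_of_odd_pow (k := 1)
      (hodd.of_dvd_nat ((Subgroup.orderOf_mk z hzV).symm.dvd.trans (orderOf_dvd_natCard _))) (by rw [pow_one]; exact e)
    rw [hz1, one_mul] at htc
    exact ⟨c, hcV, by rw [hc]; group, fun s hs =>
      fixed_centralized hG hns T hodd hVV ht h hcV (mul_inv_eq_iff_eq_mul.1 htc) hs⟩
  intro u hu
  obtain ⟨c, hcV, hc, hfc⟩ := key t ht h h2 u hu
  obtain ⟨c', hc'V, hc', hfc'⟩ := key t' ht' h' h2' u hu
  set g := t' * t
  have hg : g ∈ (T : Subgroup G) := mul_mem ht' ht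
  set e := c'⁻¹ * c * (c⁻¹ * u * c * u⁻¹) with he
  have hgu : g * u * g⁻¹ = e * u := by
    calc g * u * g⁻¹ = (t' * u * t'⁻¹)⁻¹ * (t' * c * t'⁻¹) := by
          show t' * t * u * (t' * t)⁻¹ = _
          rw [show t' * t * u * (t' * t)⁻¹ = t' * (t * u * t⁻¹) * t'⁻¹ by group, hc]; group
      _ = e * u := by rw [hc', (hfc t' ht').eq, he]; group
  have hge : Commute g e := by
    refine ((hfc' g hg).inv_right.mul_right (hfc g hg)).mul_right ?_
    exact mem_center_iff.1 (by
      simpa using commutator_mem_center hVV (inv_mem hcV) hu) g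
  obtain ⟨k, hk⟩ := exists_two_pow T hg
  have h1 := conj_pow_of_fixed hgu hge (2 ^ k)
  rw [hk, one_mul, inv_one, mul_one, eq_comm, mul_eq_right] at h1
  have heV : e ∈ V := mul_mem (mul_mem (inv_mem hc'V) hcV)
    (mul_mem (mul_mem (mul_mem (inv_mem hcV) hu) hcV) (inv_mem hu))
  have he1 : e = 1 := eq_one_of_odd_pow
    (hodd.of_dvd_nat ((Subgroup.orderOf_mk e heV).symm.dvd.trans (orderOf_dvd_natCard _))) h1
  rw [he1, one_mul] at hgu
  exact mul_inv_eq_iff_eq_mul.1 hgu

include T in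
theorem le_center_of_class_two : V ≤ center G := by
  haveI := Fact.mk Nat.prime_two
  by_contra hVZ
  obtain ⟨v, hv, hvZ⟩ := SetLike.not_le_iff_exists.1 hVZ
  set C := centralizer (V : Set G) with hCdef
  haveI : C.Normal := inferInstance
  have hmemC : ∀ {t : G}, t ∈ C ↔ ∀ u ∈ V, Commute t u := fun {t} =>
    ⟨fun h u hu => (mem_centralizer_iff.1 h u hu).symm, fun h => mem_centralizer_iff.2 fun u hu => (h u hu).symm.eq⟩
  have hmv : ∀ {t : G}, t ∉ C → ∃ u ∈ V, ¬ Commute t u := fun {t} h => by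
    by_contra hcon
    push Not at hcon
    exact h (hmemC.2 hcon)
  have hmk : ∀ {a b : G}, (a : G ⧸ C) = b ↔ a * b⁻¹ ∈ C := fun {a b} => by
    rw [← QuotientGroup.eq_one_iff, QuotientGroup.mk_mul, QuotientGroup.mk_inv, mul_inv_eq_one]
  set π := QuotientGroup.mk' C
  let P : Sylow 2 (G ⧸ C) := T.mapSurjective (QuotientGroup.mk'_surjective C)
  have huni : ∀ t ∈ (T : Subgroup G), ∀ t' ∈ (T : Subgroup G), t ∉ C → t' ∉ C → t * t ∈ C → t' * t' ∈ C →
      (t' : G ⧸ C) = t := by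
    intro t ht t' ht' h h' h2 h2'
    refine hmk.2 ?_
    have := mul_mem (hmemC.2 (inverting_mul hG hns T hodd hVV ht ht' (hmv h) (hmv h') (hmemC.1 h2) (hmemC.1 h2')))
      (inv_mem h2)
    rwa [mul_inv_rev, show t' * t * (t⁻¹ * t⁻¹) = t' * t⁻¹ by group] at this
  have hcomm : ∀ a ∈ (T : Subgroup G), ∀ b ∈ (T : Subgroup G), (a : G ⧸ C) * b = b * a := by
    by_cases hab : ∀ a ∈ (T : Subgroup G), ∀ b ∈ (T : Subgroup G), Commute a b
    · intro a ha b hb
      rw [← QuotientGroup.mk_mul, (hab a ha b hb).eq, QuotientGroup.mk_mul]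
    push Not at hab
    obtain ⟨x, hx, hxZ, hx2, hxc⟩ := exists_second_center hG hns T hab
    obtain ⟨s, hs, hsx⟩ := exists_moving hG hns T hab hx hxZ
    have hsA : ¬ Commute s x := fun h => hsx h.symm
    have hsq : ∀ t ∈ (T : Subgroup G), ¬ Commute t x → t * t ∈ C := fun t ht h => hmemC.2 fun u _ =>
      (mem_center_iff.1 (sq_center hG hns T hab hx hxZ hx2 hxc ht h) u).symm
    -- the images of the elements outside `A` form at most one nontrivial element
    obtain ⟨σ, hσ⟩ : ∃ σ : G ⧸ C, σ * σ = 1 ∧ ∀ t ∈ (T : Subgroup G), ¬ Commute t x → (t : G ⧸ C) = 1 ∨ (t : G ⧸ C) = σ := by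
      by_cases hall : ∀ t ∈ (T : Subgroup G), ¬ Commute t x → t ∈ C
      · exact ⟨1, one_mul _, fun t ht h => Or.inl ((QuotientGroup.eq_one_iff t).2 (hall t ht h))⟩
      push Not at hall
      obtain ⟨t₀, ht₀, h₀, hC₀⟩ := hall
      refine ⟨t₀, by rw [← QuotientGroup.mk_mul, QuotientGroup.eq_one_iff]; exact hsq t₀ ht₀ h₀, fun t ht h => ?_⟩
      by_cases htC : t ∈ C
      · exact Or.inl ((QuotientGroup.eq_one_iff t).2 htC)
      · exact Or.inr (huni t₀ ht₀ t ht hC₀ htC (hsq t₀ ht₀ h₀) (hsq t ht h))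
    have hall : ∀ a ∈ (T : Subgroup G), (a : G ⧸ C) = 1 ∨ (a : G ⧸ C) = σ := by
      intro a ha
      by_cases hax : Commute a x
      · have h1 : ¬ Commute (s * a) x := fun h => hsA (by simpa using h.mul_left hax.inv_left)
        rw [show (a : G ⧸ C) = (s : G ⧸ C)⁻¹ * ((s * a : G) : G ⧸ C) by rw [QuotientGroup.mk_mul, inv_mul_cancel_left]]
        rcases hσ.2 s hs hsA with e | e <;> rcases hσ.2 _ (mul_mem hs ha) h1 with e' | e' <;> rw [e, e']
        · exact Or.inl (by rw [inv_one, one_mul])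
        · exact Or.inr (by rw [inv_one, one_mul])
        · exact Or.inr (by rw [mul_one, inv_eq_of_mul_eq_one_right hσ.1])
        · exact Or.inl (inv_mul_cancel _)
      · exact hσ.2 a ha hax
    intro a ha b hb
    rcases hall a ha with e | e <;> rcases hall b hb with e' | e' <;> simp [e, e']
  have hcyc : IsCyclic (P : Subgroup (G ⧸ C)) := by
    have hPm : ∀ y : (P : Subgroup (G ⧸ C)), ∃ t ∈ (T : Subgroup G), (t : G ⧸ C) = y := fun y => by
      obtain ⟨t, ht, hty⟩ := y.2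
      exact ⟨t, ht, hty⟩
    have hPc : ∀ a b : (P : Subgroup (G ⧸ C)), a * b = b * a := fun a b => by
      obtain ⟨s, hs, e⟩ := hPm a
      obtain ⟨s', hs', e'⟩ := hPm b
      exact Subtype.ext (by simp only [coe_mul, ← e, ← e']; exact hcomm s hs s' hs')
    by_cases hex : ∃ t ∈ (T : Subgroup G), t ∉ C ∧ t * t ∈ C
    · obtain ⟨t₀, ht₀, h₀, h₀2⟩ := hex
      refine AbelianTwoFactor.isCyclic_of_unique_involution P.isPGroup' hPc
        (v := ⟨t₀, ⟨t₀, ht₀, rfl⟩⟩) fun a ha => ?_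
      obtain ⟨t, ht, e⟩ := hPm a
      by_cases htC : t ∈ C
      · exact Or.inl (Subtype.ext (by rw [← e, coe_one]; exact (QuotientGroup.eq_one_iff t).2 htC))
      · refine Or.inr (Subtype.ext ?_)
        rw [← e]
        refine huni t₀ ht₀ t ht h₀ htC h₀2 ((QuotientGroup.eq_one_iff _).1 ?_)
        rw [QuotientGroup.mk_mul, e]
        exact congrArg Subtype.val ha
    · refine AbelianTwoFactor.isCyclic_of_unique_involution P.isPGroup' hPc (v := 1) fun a ha => Or.inl ?_
      obtain ⟨t, ht, e⟩ := hPm a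
      by_contra ha1
      refine hex ⟨t, ht, fun htC => ha1 (Subtype.ext ?_), (QuotientGroup.eq_one_iff _).1 ?_⟩
      · rw [← e, coe_one]; exact (QuotientGroup.eq_one_iff t).2 htC
      · rw [QuotientGroup.mk_mul, e]
        exact congrArg Subtype.val ha
  have hsol : Group.IsSolvable (G ⧸ C) := by
    by_cases h2 : 2 ∣ Nat.card (G ⧸ C)
    · exact isSolvable_of_sylow_central P
        (IsCyclic.normalizer_le_centralizer ((Nat.minFac_eq_two_iff _).2 h2) hcyc)
    · exact isSolvable_of_odd_card (Nat.odd_iff.2 (Nat.two_dvd_ne_zero.1 h2))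
  have hC : ¬ Group.IsSolvable C := fun h => hns ((Group.isSolvable_iff_subgroup_quotient C).2 ⟨h, hsol⟩)
  exact hvZ (mem_center_of_centralizes hG hC fun n hn => (hmemC.1 hn v hv).symm)

end

theorem pPrimeCore_le_center (hG : SubCA G) (hns : ¬ Group.IsSolvable G) : pPrimeCore 2 G ≤ center G := by
  haveI := Fact.mk Nat.prime_two
  haveI : (pPrimeCore 2 G).Normal := Cores.pPrimeCore_normal 2 G
  by_contra h
  obtain ⟨T⟩ := (inferInstance : Nonempty (Sylow 2 G))
  obtain ⟨V, hV, hVR, hVZ, hVV⟩ := exists_class_two (isSolvable_of_odd_card odd_pPrimeCore) h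
  exact hVZ (le_center_of_class_two hG hns T (odd_pPrimeCore.of_dvd_nat (card_dvd_of_le hVR)) hVV)

/-- A normal subgroup of odd order modulo the centre is central. -/
theorem le_center_of_odd_mod_center (hG : SubCA G) (hns : ¬ Group.IsSolvable G) {R : Subgroup G} [R.Normal]
    (hodd : Odd (Nat.card (R.map (QuotientGroup.mk' (center G))))) : R ≤ center G := by
  set m := Nat.card (R.map (QuotientGroup.mk' (center G))) with hm
  have hm' : Odd m := hodd
  have hpow : ∀ r ∈ R, r ^ m ∈ center G := fun r hr => by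
    have h1 : (⟨_, mem_map_of_mem (QuotientGroup.mk' (center G)) hr⟩ : R.map (QuotientGroup.mk' (center G))) ^ m = 1 :=
      pow_card_eq_one'
    exact (QuotientGroup.eq_one_iff _).1 (congrArg Subtype.val h1)
  set n := (center R).index with hn
  have hndvd : n ∣ m := by
    let g := ((QuotientGroup.mk' (center G)).comp R.subtype)
    have hker : g.ker ≤ center R := fun r hr => mem_center_iff.2 fun y => Subtype.ext
      (mem_center_iff.1 ((QuotientGroup.eq_one_iff _).1 hr) y)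
    have h1 : g.ker.index = m := by
      rw [index_ker, MonoidHom.range_comp, range_subtype]
    exact h1 ▸ index_dvd_of_le hker
  obtain ⟨j, l, hl, hjl⟩ := Nat.exists_eq_two_pow_mul_odd (Nat.card_pos (α := center R)).ne'
  let φ : R →* center R :=
    { toFun := fun r => MonoidHom.transferCenterPow R r ^ l
      map_one' := by rw [map_one, one_pow]
      map_mul' := fun x y => by
        rw [map_mul, Commute.mul_pow (Subtype.ext (mem_center_iff.1 (MonoidHom.transferCenterPow R y).2 _))] }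
  have hφ : ∀ r : R, ((φ r : R) : G) = (r : G) ^ (n * l) := fun r => by
    show ((((MonoidHom.transferCenterPow R) r) ^ l : center R) : G) = _
    rw [SubmonoidClass.coe_pow, MonoidHom.transferCenterPow_apply, SubmonoidClass.coe_pow, SubmonoidClass.coe_pow,
      ← pow_mul]
  set K := φ.ker.map R.subtype with hK
  have hmem : ∀ {x : G}, x ∈ K ↔ x ∈ R ∧ x ^ (n * l) = 1 := fun {x} => by
    constructor
    · rintro ⟨r, hr, rfl⟩
      exact ⟨r.2, (hφ r).symm.trans (by rw [MonoidHom.mem_ker.1 hr]; rfl)⟩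
    · rintro ⟨hx, h1⟩
      exact ⟨⟨x, hx⟩, MonoidHom.mem_ker.2 (Subtype.ext (Subtype.ext ((hφ ⟨x, hx⟩).trans h1))), rfl⟩
  haveI : K.Normal := ⟨fun x hx g => hmem.2 ⟨(inferInstance : R.Normal).conj_mem x (hmem.1 hx).1 g,
    by rw [conj_pow, (hmem.1 hx).2, mul_one, mul_inv_cancel]⟩⟩
  have hKodd : (Nat.card K).Coprime 2 := by
    refine ((Nat.prime_two.coprime_iff_not_dvd).2 fun h2 => ?_).symm
    obtain ⟨x, hx⟩ := exists_prime_orderOf_dvd_card' (G := K) 2 h2
    have h1 : orderOf (x : G) ∣ n * l := orderOf_dvd_of_pow_eq_one (hmem.1 x.2).2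
    rw [Subgroup.orderOf_coe, hx] at h1
    exact absurd (((hm'.of_dvd_nat hndvd).mul hl).of_dvd_nat h1) (by decide)
  have hKZ : K ≤ center G :=
    (Cores.le_pPrimeCore inferInstance hKodd).trans (pPrimeCore_le_center hG hns)
  intro r hr
  have h1 : r ^ 2 ^ j ∈ center G := by
    refine hKZ (hmem.2 ⟨pow_mem hr _, ?_⟩)
    have h2 : ((MonoidHom.transferCenterPow R) ⟨r, hr⟩) ^ (2 ^ j * l) = 1 := hjl ▸ pow_card_eq_one'
    have h3 := congrArg (fun z : center R => ((z : R) : G)) h2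
    simp only [SubmonoidClass.coe_pow, MonoidHom.transferCenterPow_apply, OneMemClass.coe_one, ← pow_mul] at h3
    rw [← pow_mul, show 2 ^ j * (n * l) = n * (2 ^ j * l) by ring]
    exact h3
  rw [← QuotientGroup.eq_one_iff, ← orderOf_eq_one_iff]
  refine Nat.eq_one_of_dvd_coprimes (Nat.Coprime.pow_left j (Nat.coprime_two_left.2 hm'))
    (orderOf_dvd_of_pow_eq_one ?_) (orderOf_dvd_of_pow_eq_one ?_)
  · rw [← QuotientGroup.mk_pow, QuotientGroup.eq_one_iff]; exact h1
  · rw [← QuotientGroup.mk_pow, QuotientGroup.eq_one_iff]; exact hpow r hr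

end Cfsg.Agent.MinNonCA
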