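import Cfsg.Agent.Lib.MinNonCA.Quotient
import Cfsg.Agent.S3188
import Cfsg.Agent.Lib.PSL2.Basic

/-!
# Soluble centralisers of involutions modulo the centre; the case of abelian Sylow 2-subgroups

* `isSolvable_centralizer_quotient_two`
* `Kernel` : perfect nonsolvable, all proper characteristic subgroups solvable
* `Kernel.exists_psl`
-/

set_option autoImplicit false
set_option linter.style.haveILetI false
set_option linter.unusedSectionVars false

namespace Cfsg.Agent.MinNonCA

open Subgroup

universe u

variable {G : Type u} [Group G] [Finite G]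

theorem isSolvable_centralizer_of_comm (hG : SubCA G) (hns : ¬ Group.IsSolvable G) (T : Sylow 2 G)
    (hT : ∀ a ∈ (T : Subgroup G), ∀ b ∈ (T : Subgroup G), Commute a b) {x : G} (hx : x ∈ (T : Subgroup G))
    (hxZ : x ∉ center G) : Group.IsSolvable (centralizer ({x} : Set G)) := by
  haveI := Fact.mk Nat.prime_two
  haveI : IsMulCommutative (T : Subgroup G) := ⟨⟨fun a b => Subtype.ext (hT a a.2 b b.2)⟩⟩
  set M := normalizer ((T : Subgroup G) : Set G) with hM
  obtain ⟨n, hn, hxn⟩ : ∃ n ∈ M, ¬ Commute x n := by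
    by_contra hcon
    push Not at hcon
    obtain ⟨k, hk⟩ := exists_two_pow T hx
    refine hxZ (mem_center_of_isolated hk (isIsolated_of_fusion T hx fun g hg => ?_)
      fun o ho => (mem_center_iff.1 (pPrimeCore_le_center hG hns ho) x))
    obtain ⟨m, hm, he⟩ := Transfer.normalizer_control_of_comm T x hx g hg
    rw [← he, ← (hcon m hm).eq, mul_inv_cancel_right]
  have hMtop : M ≠ ⊤ := fun e => hns (isSolvable_of_normal_sylow T (normalizer_eq_top_iff.1 e))
  set H := centralizer ({x} : Set G) with hH
  have hTH : (T : Subgroup G) ≤ H := fun t ht => mem_centralizer_singleton_iff.2 (hT t ht x hx).eq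
  refine isSolvable_of_sylow_central (T.subtype hTH) fun a ha => mem_centralizer_iff.2 fun b hb => Subtype.ext ?_
  have haM : (a : G) ∈ M := Coprime.mem_normalizer_of_forall fun t ht =>
    (mem_normalizer_iff.1 ha ⟨t, hTH ht⟩).1 ht
  exact (commute_in_cent hG hMtop (le_normalizer hx) hn hxn (le_normalizer hb) haM
    (hT _ hb x hx) (mem_centralizer_singleton_iff.1 a.2))

theorem isSolvable_centralizer_quotient_two (hG : SubCA G) (hns : ¬ Group.IsSolvable G) (T : Sylow 2 G)
    (ū : G ⧸ center G) (hu : orderOf ū = 2) :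
    Group.IsSolvable (centralizer ({ū} : Set (G ⧸ center G))) := by
  haveI := Fact.mk Nat.prime_two
  obtain ⟨w, k, hw, hwZ, hw2, rfl⟩ := exists_lift hu
  refine isSolvable_centralizer_quotient ?_
  by_cases hT : ∀ a ∈ (T : Subgroup G), ∀ b ∈ (T : Subgroup G), Commute a b
  · obtain ⟨j, -, hj⟩ := (Nat.dvd_prime_pow Nat.prime_two).1 (orderOf_dvd_of_pow_eq_one hw)
    obtain ⟨g, hg⟩ := Transfer.exists_conj_mem_sylow T hj
    haveI := isSolvable_centralizer_of_comm hG hns T hT hg fun e => hwZ (by
      simpa [mul_assoc] using (inferInstance : (center G).Normal).conj_mem _ e g⁻¹)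
    refine Group.isSolvable_of_isSolvable_injective (f := ((MulAut.conj g).toMonoidHom.comp
      (centralizer ({w} : Set G)).subtype).codRestrict (centralizer ({g * w * g⁻¹} : Set G)) fun c =>
        mem_centralizer_singleton_iff.2 ?_) ?_
    · exact ((show Commute (c : G) w from mem_centralizer_singleton_iff.1 c.2).map (MulAut.conj g).toMonoidHom).eq
    · exact fun a b e => Subtype.ext ((MulAut.conj g).injective (congrArg Subtype.val e))
  · push Not at hT
    exact Group.isSolvable_of_comm fun a b => Subtype.ext (commute_of_involution hG hns T hT hw hwZ hw2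
      (mem_centralizer_singleton_iff.1 a.2) (mem_centralizer_singleton_iff.1 b.2)).eq

/-- The perfect core of the problem: every proper characteristic subgroup is solvable. -/
structure Kernel (G : Type u) [Group G] : Prop where
  subCA : SubCA G
  ns : ¬ Group.IsSolvable G
  perfect : commutator G = ⊤
  char : ∀ K : Subgroup G, K.Characteristic → K ≠ ⊤ → Group.IsSolvable K

theorem Kernel.exists_psl (h : Kernel G) (T : Sylow 2 G)
    (hT : ∀ a ∈ (T : Subgroup G), ∀ b ∈ (T : Subgroup G), a * b * a⁻¹ * b⁻¹ ∈ center G) :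
    ∃ (F : Type) (_ : Field F) (_ : Fintype F),
      (((Fintype.card F % 8 = 3 ∨ Fintype.card F % 8 = 5) ∧ 5 ≤ Fintype.card F) ∨
        (∃ n : ℕ, 2 ≤ n ∧ Fintype.card F = 2 ^ n)) ∧
      Nonempty (G ⧸ center G ≃* Matrix.ProjectiveSpecialLinearGroup (Fin 2) F) := by
  haveI := Fact.mk Nat.prime_two
  set π := QuotientGroup.mk' (center G) with hπ
  let P : Sylow 2 (G ⧸ center G) := T.mapSurjective (QuotientGroup.mk'_surjective _)
  have hP : IsMulCommutative (P : Subgroup (G ⧸ center G)) := ⟨⟨by
    rintro ⟨_, a, ha, rfl⟩ ⟨_, b, hb, rfl⟩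
    exact Subtype.ext (mk_commute_iff.2 (hT a ha b hb)).eq⟩⟩
  have hns' : ¬ Group.IsSolvable (G ⧸ center G) := fun hs => h.ns ((Group.isSolvable_iff_subgroup_quotient
    (center G)).2 ⟨Group.isSolvable_of_comm fun a b => Subtype.ext (mem_center_iff.1 b.2 a), hs⟩)
  rcases S3188.result P hP (isSolvable_centralizer_quotient_two h.subCA h.ns T) with hs | ⟨F, iF, iF', hF, M, hM, ⟨e⟩, hC⟩
  · exact absurd hs hns'
  refine ⟨F, iF, iF', hF, ?_⟩
  have h4 : 4 ≤ Nat.card F := by
    rw [Nat.card_eq_fintype_card]
    rcases hF with ⟨-, h5⟩ | ⟨n, hn, hF⟩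
    · omega
    · rw [hF]; exact (show 4 = 2 ^ 2 from rfl) ▸ Nat.pow_le_pow_right two_pos hn
  haveI := PSL2.isSimpleGroup_psl (L := F) h4
  obtain ⟨ψ⟩ : Nonempty ((G ⧸ center G) ⧸ oddCore (G ⧸ center G) ≃* G ⧸ center G) :=
    ⟨(QuotientGroup.quotientMulEquivOfEq (oddCore_quotient h.subCA h.ns)).trans (QuotientGroup.quotientBot)⟩
  set M' := M.map ψ.toMonoidHom with hM'
  haveI : M'.Normal := hM.map _ ψ.surjective
  let e' : M' ≃* Matrix.ProjectiveSpecialLinearGroup (Fin 2) F := (M.equivMapOfInjective _ ψ.injective).symm.trans e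
  have hC' : ∀ c, (∀ m ∈ M', c * m = m * c) → c = 1 := fun c hc => by
    have h1 : ψ.symm c ∈ centralizer (M : Set _) := mem_centralizer_iff.2 fun m hm => ψ.injective (by
      rw [map_mul, map_mul, ψ.apply_symm_apply]
      exact (hc _ (mem_map_of_mem _ hm)).symm)
    rw [hC, mem_bot] at h1
    simpa using congrArg ψ h1
  haveI : IsSimpleGroup M' := e'.isSimpleGroup_congr.2 inferInstance
  have hchar : (M'.comap π).Characteristic := characteristic_iff_map_eq.2 fun φ => by
    set K := M'.comap π
    haveI : (K.map φ.toMonoidHom).Normal := Subgroup.Normal.map inferInstance _ φ.surjective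
    haveI : ((K.map φ.toMonoidHom).map π).Normal := Subgroup.Normal.map inferInstance _ (QuotientGroup.mk'_surjective _)
    set M₂ := (K.map φ.toMonoidHom).map π
    haveI : (M₂.subgroupOf M').Normal := inferInstance
    have hker : π.ker ≤ K.map φ.toMonoidHom := by
      rw [QuotientGroup.ker_mk', ← characteristic_iff_map_eq.1 (Subgroup.centerCharacteristic) φ]
      exact map_mono (by intro z hz; rw [mem_comap, show π z = 1 from (QuotientGroup.eq_one_iff z).2 hz]; exact one_mem _)
    have h2 : (M₂.comap π) = K.map φ.toMonoidHom := comap_map_eq_self hker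
    rcases IsSimpleGroup.eq_bot_or_eq_top_of_normal (M₂.subgroupOf M') inferInstance with hb | ht
    · exfalso
      rw [subgroupOf_eq_bot, disjoint_iff] at hb
      have hcomm : ∀ c ∈ M₂, c = 1 := fun c hc => hC' c fun m hm =>
        (Subgroup.commute_of_normal_of_disjoint M₂ M' inferInstance inferInstance (disjoint_iff.2 hb) c m hc hm).eq
      have h1 : K.map φ.toMonoidHom ≤ center G := fun g hg =>
        (QuotientGroup.eq_one_iff g).1 (hcomm _ (mem_map_of_mem π hg))
      have h3 : K ≤ center G := fun g hg => by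
        have := h1 (mem_map_of_mem φ.toMonoidHom hg)
        rw [← characteristic_iff_map_eq.1 (Subgroup.centerCharacteristic) φ] at this
        obtain ⟨z, hz, hze⟩ := this
        exact φ.injective hze ▸ hz
      obtain ⟨m, hm⟩ := exists_ne (1 : M')
      obtain ⟨g, hg⟩ := QuotientGroup.mk'_surjective _ (m : G ⧸ center G)
      exact hm (Subtype.ext (hg.symm.trans ((QuotientGroup.eq_one_iff g).2 (h3 (mem_comap.2 (hg ▸ m.2))))))
    · rw [subgroupOf_eq_top] at ht
      refine (eq_of_le_of_card_ge ?_ (le_of_eq (card_map_of_injective φ.injective))).symm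
      rw [← h2]; exact comap_mono ht
  have htop : M' = ⊤ := by
    by_contra hne
    have hK : M'.comap π ≠ ⊤ := fun e => hne (by
      rw [← map_comap_eq_self_of_surjective (QuotientGroup.mk'_surjective (center G)) M', ← hπ, e,
        map_top_of_surjective _ (QuotientGroup.mk'_surjective _)])
    haveI := h.char _ hchar hK
    haveI : Group.IsSolvable M' := Group.isSolvable_of_surjective (f := π.subgroupComap M')
      (MonoidHom.subgroupComap_surjective_of_surjective _ _ (QuotientGroup.mk'_surjective _))
    haveI : Group.IsSolvable (Matrix.ProjectiveSpecialLinearGroup (Fin 2) F) :=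
      Group.isSolvable_of_surjective (f := e'.toMonoidHom) e'.surjective
    exact PSL2.not_comm_psl (L := F) (by omega) (IsSimpleGroup.comm_iff_isSolvable.2 inferInstance)
  exact ⟨(Subgroup.topEquiv.symm.trans (MulEquiv.subgroupCongr htop.symm)).trans e'⟩

end Cfsg.Agent.MinNonCA
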