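import Cfsg.Agent.Lib.MinNonCA.YLemma
import Cfsg.Agent.Lib.MinNonCA.SolvCent
import Cfsg.Agent.Lib.DGroup.Recognise
import Cfsg.Agent.Lib.DGroup.FullCase
import Cfsg.Agent.Lib.GWReduce.Main
import Cfsg.Agent.Lib.Transfer.FusionInvariant

/-!
# A nonabelian Sylow 2-subgroup, not elementary modulo the centre

The image of `T` modulo the centre is dihedral, and the group is `PSL(2, q)` modulo its centre.

* `Ctx` : the setting
* `Ctx.exists_gen`, `Ctx.exists_psl`
-/

set_option autoImplicit false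
set_option linter.style.haveILetI false
set_option linter.unusedSectionVars false

namespace Cfsg.Agent.MinNonCA

open Subgroup

universe u

variable {G : Type u} [Group G] [Finite G]

theorem mul_self_zmod_two : ∀ u : Multiplicative (ZMod 2), u * u = 1 := by decide

/-- The setting: `x` spans the second centre of `T`, `C_T(x)` has index two. -/
structure Ctx (G : Type u) [Group G] (T : Sylow 2 G) (x : G) : Prop where
  kernel : Kernel G
  nonab : ∃ a ∈ (T : Subgroup G), ∃ b ∈ (T : Subgroup G), ¬ Commute a b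
  hx : x ∈ (T : Subgroup G)
  hxZ : x ∉ center G
  hx2 : x * x ∈ center G
  hxc : ∀ t ∈ (T : Subgroup G), t * x * t⁻¹ * x⁻¹ ∈ center G
  two : ∀ s₁ ∈ (T : Subgroup G), ∀ s₂ ∈ (T : Subgroup G), ¬ Commute s₁ x → ¬ Commute s₂ x → Commute (s₁ * s₂) x
  big : ∃ t ∈ (T : Subgroup G), t * t ∉ center G

namespace Ctx

variable {T : Sylow 2 G} {x : G} (h : Ctx G T x)
include h

theorem sq_center {s : G} (hs : s ∈ (T : Subgroup G)) (hsA : ¬ Commute s x) : s * s ∈ center G :=
  MinNonCA.sq_center h.kernel.subCA h.kernel.ns T h.nonab h.hx h.hxZ h.hx2 h.hxc hs hsA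

theorem inverts {s a : G} (hs : s ∈ (T : Subgroup G)) (hsA : ¬ Commute s x) (ha : a ∈ (T : Subgroup G))
    (hax : Commute a x) : s * a * s⁻¹ * a ∈ center G :=
  MinNonCA.inverts h.kernel.subCA h.kernel.ns T h.nonab h.hx h.hxZ h.hx2 h.hxc hs hsA ha hax

theorem center_of_commute {s a : G} (hs : s ∈ (T : Subgroup G)) (hsA : ¬ Commute s x)
    (ha : a ∈ (T : Subgroup G)) (hax : Commute a x) (has : Commute a s) : a ∈ center G :=
  MinNonCA.center_of_commute h.kernel.subCA h.kernel.ns T h.nonab h.hx h.hxZ h.hx2 h.hxc hs hsA ha hax has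

theorem ca {a b t : G} (ha : a ∈ (T : Subgroup G)) (haZ : a ∉ center G) (hb : b ∈ (T : Subgroup G))
    (ht : t ∈ (T : Subgroup G)) (hab : Commute b a) (hat : Commute t a) : Commute b t :=
  sylow_ca h.kernel.subCA h.kernel.ns T h.nonab ha haZ hb ht hab hat

/-- An element outside `A` is fused to an involution modulo the centre of `A`. -/
theorem exists_fused : ∃ a s g : G, a ∈ (T : Subgroup G) ∧ s ∈ (T : Subgroup G) ∧ Commute a x ∧ ¬ Commute s x ∧
    a ∉ center G ∧ a * a ∈ center G ∧ s = g * a * g⁻¹ := by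
  classical
  haveI := Fact.mk Nat.prime_two
  by_contra hcon
  let χ : (T : Subgroup G) →* Multiplicative (ZMod 2) :=
    { toFun := fun t => if Commute (t : G) x then 1 else Multiplicative.ofAdd 1
      map_one' := if_pos (Commute.one_left x)
      map_mul' := fun a b => by
        by_cases ha : Commute (a : G) x <;> by_cases hb : Commute (b : G) x <;>
          simp only [coe_mul, ha, hb, if_true, if_false, mul_one, one_mul]
        · exact if_pos (ha.mul_left hb)
        · exact if_neg fun e => hb (by simpa using ha.inv_left.mul_left e)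
        · exact if_neg fun e => ha (by simpa using e.mul_left hb.inv_left)
        · rw [if_pos (h.two a a.2 b b.2 ha hb), mul_self_zmod_two] }
  have hker : ∀ t : (T : Subgroup G), Commute (t : G) x → χ t = 1 := fun t ht => if_pos ht
  have hnker : ∀ t : (T : Subgroup G), ¬ Commute (t : G) x → χ t = Multiplicative.ofAdd 1 := fun t ht => if_neg ht
  have key : ∀ (q g : G) (hq : q ∈ (T : Subgroup G)) (hgq : g * q * g⁻¹ ∈ (T : Subgroup G)),
      χ ⟨g * q * g⁻¹, hgq⟩ = χ ⟨q, hq⟩ := by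
    intro q g hq hgq
    have hZ : ∀ (g c : G), c ∈ center G → g * c * g⁻¹ ∈ center G := fun g c hc =>
      (inferInstance : (center G).Normal).conj_mem c hc g
    have hne : ∀ (a s g : G), a ∈ (T : Subgroup G) → s ∈ (T : Subgroup G) → Commute a x → ¬ Commute s x →
        s ≠ g * a * g⁻¹ := by
      intro a s g ha hs hax hsx e
      refine hcon ⟨a, s, g, ha, hs, hax, hsx, fun haZ => hsx ?_, ?_, e⟩
      · rw [e, mem_center_iff.1 haZ g, mul_inv_cancel_right]; exact hax
      · have := hZ g⁻¹ _ (h.sq_center hs hsx)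
        rwa [e, show g⁻¹ * (g * a * g⁻¹ * (g * a * g⁻¹)) * g⁻¹⁻¹ = a * a by group] at this
    by_cases hqx : Commute q x <;> by_cases hgx : Commute (g * q * g⁻¹) x
    · rw [hker _ hgx, hker ⟨q, hq⟩ hqx]
    · exact absurd rfl (hne q _ g hq hgq hqx hgx)
    · exact absurd (by group) (hne _ q g⁻¹ hgq hq hgx hqx)
    · rw [hnker _ hgx, hnker ⟨q, hq⟩ hqx]
  obtain ⟨s, hs, hxs⟩ := exists_moving h.kernel.subCA h.kernel.ns T h.nonab h.hx h.hxZ
  have h1 := Transfer.commutator_le_ker_of_invariant T χ key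
    (x := ⟨s, hs⟩) (mem_subgroupOf.2 (h.kernel.perfect ▸ mem_top _))
  rw [MonoidHom.mem_ker, hnker ⟨s, hs⟩ fun e => hxs e.symm] at h1
  exact absurd h1 (fun e => Transfer.ofAdd_one_ne e)

/-- The image of `star w` under `starHom` is that of `T`. -/
theorem star_cases {w s c : G} (hw : w ∈ (T : Subgroup G)) (hwx : Commute w x) (hwZ : w ∉ center G)
    (hw2 : w * w ∈ center G) (hs : s ∈ (T : Subgroup G)) (hsA : ¬ Commute s x)
    (hc : c * w * c⁻¹ * w⁻¹ ∈ center G) : Commute c w ∨ Commute (c * s⁻¹) w := by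
  haveI := Fact.mk Nat.prime_two
  have hTs : (T : Subgroup G) ≤ star w := fun t ht => mem_star.2 (by
    by_cases htx : Commute t x
    · rw [(h.ca h.hx h.hxZ ht hw htx hwx).eq, mul_inv_cancel_right, mul_inv_cancel]; exact one_mem _
    · have := mul_mem (h.inverts ht htx hw hwx) (inv_mem hw2)
      rwa [mul_inv_rev, ← mul_assoc, mul_inv_cancel_right] at this)
  set c₁ : star w := ⟨c, mem_star.2 hc⟩
  set s₁ : star w := ⟨s, hTs hs⟩
  obtain ⟨k, o, ho, hko⟩ := Nat.exists_eq_two_pow_mul_odd (orderOf_pos c₁).ne'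
  have hsq : ∀ g : star w, starHom w g * starHom w g = 1 := fun g => Subtype.ext (by
    show (g : G) * w * (g : G)⁻¹ * w⁻¹ * ((g : G) * w * (g : G)⁻¹ * w⁻¹) = 1
    have hz := mem_center_iff.1 (mem_star.1 g.2)
    calc _ = (g : G) * w * (g : G)⁻¹ * (w⁻¹ * ((g : G) * w * (g : G)⁻¹ * w⁻¹)) := by group
      _ = (g : G) * w * (g : G)⁻¹ * (((g : G) * w * (g : G)⁻¹ * w⁻¹) * w⁻¹) := by rw [hz w⁻¹]
      _ = (g : G) * (w * w) * (g : G)⁻¹ * (w * w)⁻¹ := by group
      _ = 1 := by rw [mem_center_iff.1 hw2 (g : G), mul_inv_cancel_right, mul_inv_cancel])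
  have hco : starHom w (c₁ ^ o) = starHom w c₁ := by
    obtain ⟨j, rfl⟩ := ho
    rw [map_pow, pow_succ, pow_mul, pow_two, hsq, one_pow, one_mul]
  obtain ⟨j, -, hj⟩ := (Nat.dvd_prime_pow Nat.prime_two).1
    (orderOf_dvd_of_pow_eq_one (show (c₁ ^ o) ^ 2 ^ k = 1 by rw [← pow_mul, mul_comm, ← hko, pow_orderOf_eq_one]))
  obtain ⟨g, hg⟩ := Transfer.exists_conj_mem_sylow (T.subtype hTs) hj
  set t := g * c₁ ^ o * g⁻¹
  have hct : starHom w t = starHom w c₁ := by
    rw [map_mul, map_mul, map_inv, hco]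
    exact Subtype.ext (by
      simp only [coe_mul, coe_inv]
      rw [mem_center_iff.1 (starHom w c₁).2 _, mul_inv_cancel_right])
  have htT : (t : G) ∈ (T : Subgroup G) := hg
  by_cases htx : Commute (t : G) x
  · left
    exact starHom_eq_one.1 (hct.symm.trans (starHom_eq_one.2 (h.ca h.hx h.hxZ htT hw htx hwx)))
  · right
    have h2 : Commute ((t : G) * s) x := h.two _ htT s hs htx hsA
    have h3 : starHom w (t * s₁) = 1 := starHom_eq_one.2 (h.ca h.hx h.hxZ (mul_mem htT hs) hw h2 hwx)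
    refine (starHom_eq_one (g := c₁ * s₁⁻¹)).1 ?_
    rw [map_mul, hct] at h3
    rw [map_mul, map_inv, eq_inv_of_mul_eq_one_left h3, ← mul_inv_rev, hsq, inv_one]

variable {a s : G} (ha : a ∈ (T : Subgroup G)) (hs : s ∈ (T : Subgroup G)) (hax : Commute a x)
    (hsA : ¬ Commute s x) (haZ : a ∉ center G) (ha2 : a * a ∈ center G) (hfus : ∃ g, s = g * a * g⁻¹)
include ha hs hax hsA haZ ha2 hfus

/-- `a` is the only involution of `A` modulo the centre. -/
theorem unique_involution {w : G} (hw : w ∈ (T : Subgroup G)) (hwx : Commute w x) (hwZ : w ∉ center G)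
    (hw2 : w * w ∈ center G) : w * a⁻¹ ∈ center G := by
  obtain ⟨g, hg⟩ := hfus
  have key : ∀ {v : G}, v ∈ (T : Subgroup G) → Commute v x → v ∉ center G → v * v ∈ center G →
      g⁻¹ * v * g * a * (g⁻¹ * v * g)⁻¹ * a⁻¹ ∈ center G ∧ ¬ Commute (g⁻¹ * v * g) a := by
    intro v hv hvx hvZ hv2
    refine ⟨?_, fun e => hvZ (h.center_of_commute hs hsA hv hvx ?_)⟩
    · have h1 : v * s * v⁻¹ * s⁻¹ ∈ center G := by
        have h2 := mul_mem hv2 (inv_mem (h.inverts hs hsA hv hvx))
        rwa [show v * v * (s * v * s⁻¹ * v)⁻¹ = v * s * v⁻¹ * s⁻¹ by group] at h2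
      have := (inferInstance : (center G).Normal).conj_mem _ h1 g⁻¹
      rw [hg] at this
      simpa [mul_assoc] using this
    · have := e.map (MulAut.conj g).toMonoidHom
      rw [hg]
      simpa [mul_assoc] using this
  obtain ⟨h1, h1'⟩ := key hw hwx hwZ hw2
  obtain ⟨h2, h2'⟩ := key ha hax haZ ha2
  have c1 := (h.star_cases ha hax haZ ha2 hs hsA h1).resolve_left h1'
  have c2 := (h.star_cases ha hax haZ ha2 hs hsA h2).resolve_left h2'
  have c3 := c1.mul_left c2.inv_left
  have c4 : Commute (w * a⁻¹) s := by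
    have := c3.map (MulAut.conj g).toMonoidHom
    rw [hg]
    simpa [mul_assoc] using this
  exact h.center_of_commute hs hsA (mul_mem hw (inv_mem ha)) (hwx.mul_left hax.inv_left) c4

/-- The image of `A` is cyclic. -/
theorem exists_gen : ∃ a₁ ∈ (T : Subgroup G), Commute a₁ x ∧ a₁ * a₁ ∉ center G ∧
    ∀ t ∈ (T : Subgroup G), Commute t x → (t : G ⧸ center G) ∈ zpowers (a₁ : G ⧸ center G) := by
  haveI := Fact.mk Nat.prime_two
  set A := (T : Subgroup G) ⊓ centralizer ({x} : Set G) with hA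
  set π := QuotientGroup.mk' (center G)
  have hAmem : ∀ {t : G}, t ∈ A ↔ t ∈ (T : Subgroup G) ∧ Commute t x := fun {t} =>
    and_congr Iff.rfl mem_centralizer_singleton_iff
  haveI : IsCyclic (A.map π) := by
    refine AbelianTwoFactor.isCyclic_of_unique_involution ((T.isPGroup'.to_le inf_le_left).map π) ?_
      (v := ⟨π a, mem_map_of_mem π (hAmem.2 ⟨ha, hax⟩)⟩) ?_
    · rintro ⟨_, b, hb, rfl⟩ ⟨_, c, hc, rfl⟩
      refine Subtype.ext ?_
      show π b * π c = π c * π b
      rw [← map_mul, ← map_mul, (h.ca h.hx h.hxZ (hAmem.1 hb).1 (hAmem.1 hc).1 (hAmem.1 hb).2 (hAmem.1 hc).2).eq]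
    · rintro ⟨_, b, hb, rfl⟩ hb2
      by_cases hbZ : b ∈ center G
      · exact Or.inl (Subtype.ext ((QuotientGroup.eq_one_iff b).2 hbZ))
      · refine Or.inr (Subtype.ext (mul_inv_eq_one.1 ?_))
        show (b : G ⧸ center G) * (a : G ⧸ center G)⁻¹ = 1
        rw [← QuotientGroup.mk_inv, ← QuotientGroup.mk_mul, QuotientGroup.eq_one_iff]
        refine h.unique_involution ha hs hax hsA haZ ha2 hfus (hAmem.1 hb).1 (hAmem.1 hb).2 hbZ ?_
        exact (QuotientGroup.eq_one_iff _).1 (congrArg Subtype.val hb2)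
  obtain ⟨y, hy⟩ := (Subgroup.isCyclic_iff_exists_zpowers_eq_top (A.map π)).1 inferInstance
  obtain ⟨a₁, ha₁, rfl⟩ := (hy ▸ mem_zpowers y : y ∈ A.map π)
  have hgen : ∀ t ∈ (T : Subgroup G), Commute t x → (t : G ⧸ center G) ∈ zpowers (a₁ : G ⧸ center G) :=
    fun t ht htx => (hy.symm ▸ mem_map_of_mem π (hAmem.2 ⟨ht, htx⟩) : π t ∈ zpowers (π a₁))
  refine ⟨a₁, (hAmem.1 ha₁).1, (hAmem.1 ha₁).2, fun h1 => ?_, hgen⟩
  obtain ⟨t, ht, ht2⟩ := h.big
  have htx : Commute t x := by_contra fun e => ht2 (h.sq_center ht e)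
  obtain ⟨i, hi⟩ := mem_zpowers_iff.1 (hgen t ht htx)
  refine ht2 ((QuotientGroup.eq_one_iff _).1 ?_)
  rw [QuotientGroup.mk_mul, ← hi, ← zpow_add, ← two_mul, zpow_mul, zpow_two, ← QuotientGroup.mk_mul,
    (QuotientGroup.eq_one_iff _).2 h1, one_zpow]

/-- A 2-element centralising `a` lies in `A`. -/
theorem two_element_mem {w : G} {k : ℕ} (hw : w ^ 2 ^ k = 1) (hwa : Commute w a) :
    w ∈ (T : Subgroup G) ∧ Commute w x := by
  haveI := Fact.mk Nat.prime_two
  have hTs : (T : Subgroup G) ≤ star a := fun t ht => mem_star.2 (by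
    by_cases htx : Commute t x
    · rw [(h.ca h.hx h.hxZ ht ha htx hax).eq, mul_inv_cancel_right, mul_inv_cancel]; exact one_mem _
    · have := mul_mem (h.inverts ht htx ha hax) (inv_mem ha2)
      rwa [mul_inv_rev, ← mul_assoc, mul_inv_cancel_right] at this)
  have hwS : w ∈ star a := mem_star.2 (by rw [hwa.eq, mul_inv_cancel_right, mul_inv_cancel]; exact one_mem _)
  obtain ⟨j, -, hj⟩ := (Nat.dvd_prime_pow Nat.prime_two).1 (orderOf_dvd_of_pow_eq_one hw)
  obtain ⟨⟨g, hg⟩, hconj⟩ := Transfer.exists_conj_mem_sylow (T.subtype hTs) (t := (⟨w, hwS⟩ : star a))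
    (by rw [Subgroup.orderOf_mk]; exact hj)
  have hgT : g * w * g⁻¹ ∈ (T : Subgroup G) := hconj
  have hab : ∀ {b c : G}, Commute b a → Commute c a → Commute b c := fun {b c} hb hc => by
    obtain ⟨m, hm⟩ := exists_two_pow T ha
    exact commute_of_involution h.kernel.subCA h.kernel.ns T h.nonab hm haZ ha2 hb hc
  have hwT : w ∈ (T : Subgroup G) := by
    rcases h.star_cases ha hax haZ ha2 hs hsA (mem_star.1 hg) with e | e
    · rwa [(hab e hwa).eq, mul_inv_cancel_right] at hgT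
    · have hsS := mem_star.1 (hTs hs)
      have h1 : Commute (s * w * s⁻¹) a := commute_conj_of_star hsS hwa
      have h2 : g * w * g⁻¹ = s * w * s⁻¹ := by
        calc g * w * g⁻¹ = g * s⁻¹ * (s * w * s⁻¹) * (g * s⁻¹)⁻¹ := by group
          _ = _ := by rw [(hab e h1).eq, mul_inv_cancel_right]
      rw [h2] at hgT
      simpa [mul_assoc] using mul_mem (mul_mem (inv_mem hs) hgT) hs
  exact ⟨hwT, h.ca ha haZ hwT h.hx hwa hax.symm⟩

theorem loc : DGroup.Loc (a : G ⧸ center G) ((centralizer ({a} : Set G)).map (QuotientGroup.mk' (center G)))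
    (s : G ⧸ center G) := by
  have hG := h.kernel.subCA
  have hns := h.kernel.ns
  have hmem : ∀ {c : G}, c ∈ centralizer ({a} : Set G) ↔ Commute c a := fun {c} => mem_centralizer_singleton_iff
  have hback : ∀ {c : G}, (c : G ⧸ center G) ∈ (centralizer ({a} : Set G)).map (QuotientGroup.mk' (center G)) →
      Commute c a := fun {c} hc => by
    obtain ⟨d, hd, e⟩ := hc
    have h1 : d⁻¹ * c ∈ center G := (QuotientGroup.eq (s := center G)).1 e
    simpa using (hmem.1 hd).mul_left (mem_center_iff.1 h1 a).symm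
  have hsS : s * a * s⁻¹ * a⁻¹ ∈ center G := by
    have := mul_mem (h.inverts hs hsA ha hax) (inv_mem ha2)
    rwa [mul_inv_rev, ← mul_assoc, mul_inv_cancel_right] at this
  obtain ⟨m, hm⟩ := exists_two_pow T ha
  have hab : ∀ {b c : G}, Commute b a → Commute c a → Commute b c := fun {b c} hb hc =>
    commute_of_involution hG hns T h.nonab hm haZ ha2 hb hc
  refine {
    ht := orderOf_mk_two haZ ha2
    le_cent := ?_
    comm := ?_
    t_mem := mem_map_of_mem _ (hmem.2 (Commute.refl a))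
    uniq := ?_
    hu := orderOf_mk_two (fun e => hsA (mem_center_iff.1 e x).symm) (h.sq_center hs hsA)
    u_cent := mem_centralizer_singleton_iff.2 (mk_commute_iff.2 hsS)
    u_not := fun e => haZ (h.center_of_commute hs hsA ha hax (hback e).symm)
    inv := ?_
    cover := ?_ }
  · rintro _ ⟨c, hc, rfl⟩
    exact mem_centralizer_singleton_iff.2 (mk_commute_iff.2 (by
      rw [(hmem.1 hc).eq, mul_inv_cancel_right, mul_inv_cancel]; exact one_mem _))
  · rintro _ ⟨b, hb, rfl⟩ _ ⟨c, hc, rfl⟩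
    rw [← map_mul, ← map_mul, (hab (hmem.1 hb) (hmem.1 hc)).eq]
  · intro e he he2
    obtain ⟨w, k, hw, hwZ, hw2, rfl⟩ := exists_lift he2
    obtain ⟨hwT, hwx⟩ := h.two_element_mem ha hs hax hsA haZ ha2 hfus hw (hback he)
    rw [← mul_inv_eq_one, ← QuotientGroup.mk_inv, ← QuotientGroup.mk_mul, QuotientGroup.eq_one_iff]
    exact h.unique_involution ha hs hax hsA haZ ha2 hfus hwT hwx hwZ hw2
  · rintro _ ⟨c, hc, rfl⟩
    have h1 : Commute (s * c * s⁻¹) a := commute_conj_of_star hsS (hmem.1 hc)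
    set d := s * c * s⁻¹ * c with hd
    have hdZ : d ∈ center G := by
      have hda : Commute d a := h1.mul_left (hmem.1 hc)
      have hds : Commute d s := by
        refine Commute.symm (mul_inv_eq_iff_eq_mul.1 ?_)
        calc s * d * s⁻¹ = s * s * c * (s * s)⁻¹ * (s * c * s⁻¹) := by rw [hd]; group
          _ = c * (s * c * s⁻¹) := by
            rw [(mem_center_iff.1 (h.sq_center hs hsA) c).symm, mul_inv_cancel_right]
          _ = d := (hab h1 (hmem.1 hc)).eq.symm
      obtain ⟨k, o, ho, hko⟩ := Nat.exists_eq_two_pow_mul_odd (orderOf_pos d).ne'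
      have hd2 : (d ^ o) ^ 2 ^ k = 1 := by rw [← pow_mul, mul_comm, ← hko, pow_orderOf_eq_one]
      obtain ⟨hdT, hdx⟩ := h.two_element_mem ha hs hax hsA haZ ha2 hfus hd2 (hda.pow_left o)
      refine Transfer.mem_of_pow_mem_of_coprime (a := o) (b := 2 ^ k) ((Nat.coprime_two_right.2 ho).pow_right k)
        (h.center_of_commute hs hsA hdT hdx (hds.pow_left o)) ?_
      refine mem_center_of_centralizes_sylow hG hns T h.nonab
        (ho.of_dvd_nat (orderOf_dvd_of_pow_eq_one (by rw [← pow_mul, ← hko, pow_orderOf_eq_one]))) fun t ht => ?_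
      by_cases htx : Commute t x
      · exact (hab hda (h.ca h.hx h.hxZ ht ha htx hax)).pow_left _
      · have h2 : Commute (t * s) a := h.ca h.hx h.hxZ (mul_mem ht hs) ha (h.two t ht s hs htx hsA) hax
        have h3 := (hab hda h2).mul_right hds.inv_right
        rw [mul_inv_cancel_right] at h3
        exact h3.pow_left _
    show (s : G ⧸ center G) * (c : G ⧸ center G) * (s : G ⧸ center G)⁻¹ = (c : G ⧸ center G)⁻¹
    rw [eq_inv_iff_mul_eq_one, ← QuotientGroup.mk_inv, ← QuotientGroup.mk_mul, ← QuotientGroup.mk_mul,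
      ← QuotientGroup.mk_mul, QuotientGroup.eq_one_iff]
    exact hdZ
  · intro c hc
    obtain ⟨c, rfl⟩ := QuotientGroup.mk_surjective c
    rcases h.star_cases ha hax haZ ha2 hs hsA (mk_commute_iff.1 (mem_centralizer_singleton_iff.1 hc)) with e | e
    · exact Or.inl (mem_map_of_mem _ (hmem.2 e))
    · refine Or.inr ?_
      have h1 : Commute (c * s) a := by
        have := e.mul_left (show Commute (s * s) a from (mem_center_iff.1 (h.sq_center hs hsA) a).symm)
        rwa [show c * s⁻¹ * (s * s) = c * s by group] at this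
      exact ⟨c * s, hmem.2 h1, rfl⟩

omit ha hs hax hsA haZ ha2 hfus in
/-- A generator and a reflection of `T` modulo the centre. -/
theorem exists_pair : ∃ a₁ s : G, a₁ ∈ (T : Subgroup G) ∧ s ∈ (T : Subgroup G) ∧ Commute a₁ x ∧ ¬ Commute s x ∧
    a₁ * a₁ ∉ center G ∧
    ∀ t ∈ (T : Subgroup G), Commute t x → (t : G ⧸ center G) ∈ zpowers (a₁ : G ⧸ center G) := by
  obtain ⟨a, s, g, ha, hs, hax, hsA, haZ, ha2, hg⟩ := h.exists_fused
  obtain ⟨a₁, h1, h2, h3, h4⟩ := h.exists_gen ha hs hax hsA haZ ha2 ⟨g, hg⟩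
  exact ⟨a₁, s, h1, hs, h2, hsA, h3, h4⟩

omit ha hs hax hsA haZ ha2 hfus in
theorem exists_psl : ∃ (F : Type) (_ : Field F) (_ : Fintype F), Odd (Fintype.card F) ∧
    Nonempty (G ⧸ center G ≃* Matrix.ProjectiveSpecialLinearGroup (Fin 2) F) := by
  haveI := Fact.mk Nat.prime_two
  obtain ⟨a, s, g, ha, hs, hax, hsA, haZ, ha2, hg⟩ := h.exists_fused
  obtain ⟨a₁, ha₁, ha₁x, ha₁2, hgen⟩ := h.exists_gen ha hs hax hsA haZ ha2 ⟨g, hg⟩
  have hloc := h.loc ha hs hax hsA haZ ha2 ⟨g, hg⟩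
  set π := QuotientGroup.mk' (center G)
  haveI : Group.IsPerfect G := ⟨h.kernel.perfect⟩
  haveI : Group.IsPerfect (G ⧸ center G) := Group.IsPerfect.ofSurjective (QuotientGroup.mk'_surjective _)
  let P : Sylow 2 (G ⧸ center G) := T.mapSurjective (QuotientGroup.mk'_surjective _)
  have hPm : ∀ {t : G}, t ∈ (T : Subgroup G) → (t : G ⧸ center G) ∈ (P : Subgroup (G ⧸ center G)) :=
    fun {t} ht => ⟨t, ht, rfl⟩
  obtain ⟨j, hj⟩ := IsPGroup.iff_orderOf.1 P.isPGroup' ⟨_, hPm ha₁⟩
  rw [Subgroup.orderOf_mk] at hj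
  obtain ⟨k, rfl⟩ : ∃ k, j = k + 2 := by
    refine ⟨j - 2, ?_⟩
    by_contra hlt
    have hd : orderOf (a₁ : G ⧸ center G) ∣ 2 := by
      rw [hj]; exact (pow_dvd_pow 2 (show j ≤ 1 by omega)).trans (by norm_num)
    exact ha₁2 ((QuotientGroup.eq_one_iff _).1 (by
      rw [QuotientGroup.mk_mul, ← pow_two]; exact orderOf_dvd_iff_pow_eq_one.1 hd))
  have hsq := h.sq_center hs hsA
  have D : DGroup.DihSylow P k (a₁ : G ⧸ center G) (s : G ⧸ center G) := by
    refine ⟨hPm ha₁, hPm hs, hj, hloc.hu, ?_, fun e => ?_, fun y hy => ?_⟩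
    · rw [eq_inv_iff_mul_eq_one, ← QuotientGroup.mk_inv, ← QuotientGroup.mk_mul, ← QuotientGroup.mk_mul,
        ← QuotientGroup.mk_mul, QuotientGroup.eq_one_iff]
      exact h.inverts hs hsA ha₁ ha₁x
    · obtain ⟨i, hi⟩ := mem_zpowers_iff.1 e
      have h1 : (a₁ ^ i)⁻¹ * s ∈ center G :=
        (QuotientGroup.eq (s := center G)).1 (by rw [QuotientGroup.mk_zpow, hi])
      exact hsA (by simpa using (ha₁x.zpow_left i).mul_left (mem_center_iff.1 h1 x).symm)
    · obtain ⟨t, ht, rfl⟩ := hy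
      by_cases htx : Commute t x
      · exact Or.inl (hgen t ht htx)
      · exact Or.inr (hgen _ (mul_mem ht hs) (h.two t ht s hs htx hsA))
  obtain ⟨e⟩ := D.nonempty_equiv
  obtain ⟨hsimp, -⟩ := GWReduce.isSimpleGroup_of_coreFree P (m := 2 ^ (k + 2))
    (le_trans (by norm_num) (Nat.pow_le_pow_right two_pos (show 1 ≤ k + 2 by omega))) e
    (oddCore_quotient h.kernel.subCA h.kernel.ns)
  haveI := hsimp
  have hns' : ¬ Group.IsSolvable (G ⧸ center G) := fun hs => h.kernel.ns ((Group.isSolvable_iff_subgroup_quotient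
    (center G)).2 ⟨Group.isSolvable_of_comm fun a b => Subtype.ext (mem_center_iff.1 b.2 a), hs⟩)
  have hPc : (P : Subgroup (G ⧸ center G)) ≤ centralizer ({(a : G ⧸ center G)} : Set (G ⧸ center G)) := by
    rintro _ ⟨t, ht, rfl⟩
    refine mem_centralizer_singleton_iff.2 (mk_commute_iff.2 ?_)
    by_cases htx : Commute t x
    · rw [(h.ca h.hx h.hxZ ht ha htx hax).eq, mul_inv_cancel_right, mul_inv_cancel]; exact one_mem _
    · have := mul_mem (h.inverts ht htx ha hax) (inv_mem ha2)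
      rwa [mul_inv_rev, ← mul_assoc, mul_inv_cancel_right] at this
  rcases hloc.full_case hns' P (hPm ha) (hPm hs) hPc with hD | ⟨N, z, A', v, w, hsplit⟩
  · exact hD.equiv_psl
  · exfalso
    haveI := hsplit.normal
    have hcomm : ∀ a b : (G ⧸ center G) ⧸ N, a * b = b * a := by
      haveI : IsCyclic ((G ⧸ center G) ⧸ N) := isCyclic_of_prime_card (p := 2) (by rw [← index_eq_card, hsplit.index])
      exact fun a b => IsCyclic.commGroup.mul_comm a b
    haveI : Group.IsSolvable ((G ⧸ center G) ⧸ N) := Group.isSolvable_of_comm hcomm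
    haveI : Group.IsPerfect ((G ⧸ center G) ⧸ N) := Group.IsPerfect.ofSurjective (QuotientGroup.mk'_surjective _)
    haveI : Nontrivial ((G ⧸ center G) ⧸ N) :=
      Finite.one_lt_card_iff_nontrivial.1 (by rw [← index_eq_card, hsplit.index]; norm_num)
    exact Group.IsPerfect.not_isSolvable ((G ⧸ center G) ⧸ N) inferInstance

end Ctx

end Cfsg.Agent.MinNonCA
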