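import Cfsg.Agent.Lib.MinNonCA.Basic
import Cfsg.Agent.Lib.Transfer.Centric
import Cfsg.Agent.Lib.Transfer.Focal
import Cfsg.Agent.Lib.ZStar.Apply
import Cfsg.Agent.Lib.ZStar.Unique
import Cfsg.Agent.Lib.PSL2.SolTools

/-!
# A nonabelian Sylow 2-subgroup has central centre

* `mem_center_of_normal_centric` : centric normal 2-subgroups
* `sylow_center` : `Z(T) ≤ Z(G)` when `T` is nonabelian
-/

set_option autoImplicit false
set_option linter.style.haveILetI false
set_option linter.unusedSectionVars false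

namespace Cfsg.Agent.MinNonCA

open Subgroup

universe u

variable {G : Type u} [Group G] [Finite G]

/-- The product of two solvable subgroups, the first normal, is solvable. -/
theorem isSolvable_sup_normal {K H : Subgroup G} [K.Normal] (hK : Group.IsSolvable K) (hH : Group.IsSolvable H) :
    Group.IsSolvable ↥(K ⊔ H) := by
  haveI := hK; haveI := hH
  rw [sup_comm]
  exact Solvable.isSolvable_sup H K

/-- The preimage of a solvable subgroup modulo a solvable normal subgroup is solvable. -/
theorem isSolvable_comap {K : Subgroup G} [K.Normal] (hK : Group.IsSolvable K) {H : Subgroup (G ⧸ K)}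
    (hH : Group.IsSolvable H) : Group.IsSolvable ↥(H.comap (QuotientGroup.mk' K)) := by
  haveI := hK; haveI := hH
  have hle : K ≤ H.comap (QuotientGroup.mk' K) := fun x hx => by
    rw [mem_comap, show QuotientGroup.mk' K x = 1 from (QuotientGroup.eq_one_iff x).2 hx]
    exact one_mem H
  refine Group.isSolvable_of_ker_le_range (Subgroup.inclusion hle)
    ((QuotientGroup.mk' K).subgroupComap H) fun x hx => ?_
  have h1 : ((x : G) : G ⧸ K) = 1 := congrArg Subtype.val hx
  exact ⟨⟨x, (QuotientGroup.eq_one_iff _).1 h1⟩, Subtype.ext rfl⟩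

theorem exists_max_solvable (R : Subgroup G) [R.Normal] (hR : Group.IsSolvable R) :
    ∃ K : Subgroup G, K.Normal ∧ Group.IsSolvable K ∧ R ≤ K ∧
      ∀ W : Subgroup G, W.Normal → Group.IsSolvable W → W ≤ K := by
  obtain ⟨K, hK⟩ := (Set.toFinite {X : Subgroup G | X.Normal ∧ Group.IsSolvable X}).exists_maximal
    ⟨R, inferInstance, hR⟩
  obtain ⟨⟨hKn, hKs⟩, hmax⟩ := hK
  haveI := hKn
  have h : ∀ W : Subgroup G, W.Normal → Group.IsSolvable W → W ≤ K := fun W hWn hWs =>
    le_sup_right.trans (hmax (y := K ⊔ W)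
      ⟨Subgroup.sup_normal _ _, isSolvable_sup_normal hKs hWs⟩ le_sup_left)
  exact ⟨K, hKn, hKs, h R inferInstance hR, h⟩

/-- An element of the centre of `T` lying in a normal centric subgroup of `T` is central. -/
theorem mem_center_of_normal_centric (hG : SubCA G) (hns : ¬ Group.IsSolvable G) (T : Sylow 2 G)
    {R : Subgroup G} [R.Normal] (hR : R ≤ (T : Subgroup G))
    (hcen : (T : Subgroup G) ⊓ centralizer (R : Set G) ≤ R)
    {z : G} (hz : z ∈ (T : Subgroup G)) (hzc : ∀ t ∈ (T : Subgroup G), Commute t z) : z ∈ center G := by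
  haveI := Fact.mk Nat.prime_two
  obtain ⟨K, hKn, hKs, hRK, hmax⟩ := exists_max_solvable R
    (Solvable.isSolvable_of_isPGroup (T.isPGroup'.to_le hR))
  haveI := hKn
  -- an element of `T` of order two modulo `K`
  obtain ⟨t, ht, htK, ht2⟩ : ∃ t ∈ (T : Subgroup G), t ∉ K ∧ t * t ∈ K := by
    have hTK : ¬ (T : Subgroup G) ≤ K := fun h =>
      not_isSolvable_of_odd_index hns K (Nat.odd_iff.2 (Nat.two_dvd_ne_zero.1 fun h2 =>
        T.not_dvd_index (h2.trans (index_dvd_of_le h)))) hKs
    obtain ⟨t, ht, htK⟩ := SetLike.not_le_iff_exists.1 hTK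
    obtain ⟨k, hk⟩ := T.isPGroup' ⟨t, ht⟩
    have hk' : t ^ 2 ^ k = 1 := by simpa using congrArg Subtype.val hk
    classical
    have hex : ∃ j, t ^ 2 ^ j ∈ K := ⟨k, by rw [hk']; exact one_mem K⟩
    have hspec := Nat.find_spec hex
    rcases h0 : Nat.find hex with _ | j
    · rw [h0, pow_zero, pow_one] at hspec
      exact absurd hspec htK
    · refine ⟨t ^ 2 ^ j, pow_mem ht _, Nat.find_min hex (by omega), ?_⟩
      rw [h0, pow_succ, mul_two, pow_add] at hspec
      exact hspec
  obtain ⟨r, hr, hrt⟩ : ∃ r ∈ R, ¬ Commute r t := by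
    by_contra hcon
    push Not at hcon
    exact htK (hRK (hcen ⟨ht, mem_centralizer_iff.2 fun r hr => (hcon r hr).eq⟩))
  have hzK : z ∈ K := hRK (hcen ⟨hz, mem_centralizer_iff.2 fun x hx => (hzc x (hR hx)).eq⟩)
  have hconj : ∀ g : G, Commute z (g * t * g⁻¹) := by
    intro g
    have hsq : ∀ y : G, y * y ∈ K → QuotientGroup.mk' K y * QuotientGroup.mk' K y = 1 := fun y hy => by
      rw [← map_mul]; exact (QuotientGroup.eq_one_iff _).2 hy
    have hg2 : g * t * g⁻¹ * (g * t * g⁻¹) ∈ K := by
      rw [show g * t * g⁻¹ * (g * t * g⁻¹) = g * (t * t) * g⁻¹ by group]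
      exact hKn.conj_mem _ ht2 g
    set M := (closure ({QuotientGroup.mk' K t, QuotientGroup.mk' K (g * t * g⁻¹)} : Set (G ⧸ K))).comap
      (QuotientGroup.mk' K) with hM
    have hMs : Group.IsSolvable M :=
      isSolvable_comap hKs (PSL2.isSolvable_two_involutions (hsq _ ht2) (hsq _ hg2))
    have hKM : K ≤ M := fun x hx => by
      rw [hM, mem_comap, show QuotientGroup.mk' K x = 1 from (QuotientGroup.eq_one_iff x).2 hx]
      exact one_mem _
    exact commute_all hG (ne_top_of_isSolvable hns hMs) (hKM hzK) (hKM (hRK hr))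
      (mem_comap.2 (subset_closure (Set.mem_insert _ _)) : t ∈ M) (hzc r (hR hr)) (hzc t ht) hrt
      (mem_comap.2 (subset_closure (Set.mem_insert_of_mem _ rfl)) : g * t * g⁻¹ ∈ M)
  set W := Subgroup.normalClosure ({t} : Set G)
  have hW : ¬ Group.IsSolvable W := fun h =>
    htK (hmax W inferInstance h (subset_normalClosure rfl))
  refine mem_center_of_centralizes hG hW fun n hn => ?_
  have hle : W ≤ centralizer {z} := (closure_le _).2 fun y hy => by
    obtain ⟨a, ha, hay⟩ := Group.mem_conjugatesOfSet_iff.1 hy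
    rw [Set.mem_singleton_iff] at ha
    subst ha
    obtain ⟨g, rfl⟩ := isConj_iff.1 hay
    exact mem_centralizer_singleton_iff.2 (hconj g).eq.symm
  exact (mem_centralizer_singleton_iff.1 (hle hn)).symm

/-- An element of `Z(T)` is fixed by fusion in `T`. -/
theorem conj_eq_of_mem (hG : SubCA G) (hns : ¬ Group.IsSolvable G) (T : Sylow 2 G)
    (hT : ∃ a ∈ (T : Subgroup G), ∃ b ∈ (T : Subgroup G), ¬ Commute a b)
    {z : G} (hz : z ∈ (T : Subgroup G)) (hzc : ∀ t ∈ (T : Subgroup G), Commute t z)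
    {g : G} (hg : g * z * g⁻¹ ∈ (T : Subgroup G)) : g * z * g⁻¹ = z := by
  haveI := Fact.mk Nat.prime_two
  have h := Transfer.fusion_invariant_fun T (fun q => q = z) (fun u hu q _ => propext ?_)
    (fun R hR y hy _ q _ => propext ?_) hz hg
  · exact (iff_of_eq h).2 rfl
  · have hc := hzc u hu
    constructor
    · intro e
      rw [mul_inv_eq_iff_eq_mul, ← hc.eq] at e
      exact mul_left_cancel e
    · rintro rfl
      rw [hc.eq, mul_inv_cancel_right]
  · have hzR : z ∈ R := hR.2 ⟨hz, mem_centralizer_iff.2 fun x hx => (hzc x (hR.1 hx)).eq⟩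
    have hyz : Commute z y := by
      by_cases htop : normalizer (R : Set G) = ⊤
      · haveI : R.Normal := normalizer_eq_top_iff.1 htop
        exact (mem_center_iff.1 (mem_center_of_normal_centric hG hns T hR.1 hR.2 hz hzc) y).symm
      · set D := (T : Subgroup G) ⊓ normalizer (R : Set G) with hD
        by_cases hab : ∀ a ∈ D, ∀ b ∈ D, Commute a b
        · exfalso
          have hRD : R ≤ D := le_inf hR.1 le_normalizer
          have hDR : D ≤ R := fun d hd => hR.2 ⟨hd.1, mem_centralizer_iff.2 fun x hx => (hab x (hRD hx) d hd).eq⟩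
          have hRT : R.subgroupOf (T : Subgroup G) = ⊤ := by
            by_contra hne
            haveI := T.isPGroup'.isNilpotent
            obtain ⟨w, hwn, hwR⟩ := SetLike.exists_of_lt
              (Group.normalizerCondition_of_isNilpotent _ (lt_top_iff_ne_top.2 hne))
            apply hwR
            have hwN : (w : G) ∈ normalizer (R : Set G) := mem_normalizer_iff.2 fun x => by
              constructor
              · intro hx
                exact (mem_normalizer_iff.1 hwn ⟨x, hR.1 hx⟩).1 hx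
              · intro hx
                have hxT : x ∈ (T : Subgroup G) := by
                  have := mul_mem (mul_mem (inv_mem w.2) (hR.1 hx)) w.2
                  simpa [mul_assoc] using this
                exact (mem_normalizer_iff.1 hwn ⟨x, hxT⟩).2 hx
            exact hDR ⟨w.2, hwN⟩
          obtain ⟨a, ha, b, hb, hne⟩ := hT
          exact hne (hab a (hRD (subgroupOf_eq_top.1 hRT ha)) b (hRD (subgroupOf_eq_top.1 hRT hb)))
        · push Not at hab
          obtain ⟨a, ha, b, hb, hne⟩ := hab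
          exact commute_all hG htop (le_normalizer hzR) ha.2 hb.2 (hzc a ha.1) (hzc b hb.1) hne hy
    constructor
    · intro e
      rw [mul_inv_eq_iff_eq_mul, hyz.eq] at e
      exact mul_left_cancel e
    · rintro rfl
      rw [← hyz.eq, mul_inv_cancel_right]

/-- An element fixed by fusion in a Sylow 2-subgroup and centralising it is isolated. -/
theorem isIsolated_of_fusion (T : Sylow 2 G) {z : G} (hz : z ∈ (T : Subgroup G))
    (h : ∀ g : G, g * z * g⁻¹ ∈ (T : Subgroup G) → g * z * g⁻¹ = z) : IsIsolated z := by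
  haveI := Fact.mk Nat.prime_two
  intro g hg
  set y := g * z * g⁻¹ with hy
  obtain ⟨k, hk⟩ := T.isPGroup' ⟨z, hz⟩
  have hk' : z ^ 2 ^ k = 1 := by simpa using congrArg Subtype.val hk
  have hy' : y ^ 2 ^ k = 1 := by rw [hy, conj_pow, hk', mul_one, mul_inv_cancel]
  have hp : IsPGroup 2 (zpowers z ⊔ zpowers y : Subgroup G) := by
    refine IsPGroup.to_sup_of_normal_right' ?_ ?_ ?_
    · exact fun a => ⟨k, Subtype.ext (by
        obtain ⟨i, hi⟩ := mem_zpowers_iff.1 a.2
        rw [SubmonoidClass.coe_pow, ← hi, ← zpow_natCast, ← zpow_mul, mul_comm, zpow_mul, zpow_natCast, hk',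
          one_zpow]; rfl)⟩
    · exact fun a => ⟨k, Subtype.ext (by
        obtain ⟨i, hi⟩ := mem_zpowers_iff.1 a.2
        rw [SubmonoidClass.coe_pow, ← hi, ← zpow_natCast, ← zpow_mul, mul_comm, zpow_mul, zpow_natCast, hy',
          one_zpow]; rfl)⟩
    · refine zpowers_le.2 (mem_normalizer_iff.2 fun x => ?_)
      have hc : ∀ x, x ∈ zpowers y → z * x * z⁻¹ = x := fun x hx => by
        obtain ⟨i, rfl⟩ := mem_zpowers_iff.1 hx
        rw [(hg.zpow_right i).eq, mul_inv_cancel_right]
      constructor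
      · intro hx; rwa [hc x hx]
      · intro hx
        have h2 := hc _ hx
        have : z * x * z⁻¹ = x := mul_left_cancel (mul_right_cancel h2)
        rwa [this] at hx
  obtain ⟨P, hP⟩ := hp.exists_le_sylow
  obtain ⟨a, rfl⟩ := MulAction.exists_smul_eq G T P
  have hmem : ∀ {x : G}, x ∈ ((a • T : Sylow 2 G) : Subgroup G) → a⁻¹ * x * a ∈ (T : Subgroup G) := fun {x} hx => by
    rw [Sylow.coe_subgroup_smul] at hx
    obtain ⟨w, hw, rfl⟩ := hx
    simpa [mul_assoc] using (show w ∈ (T : Subgroup G) from hw)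
  have hzm := hmem (hP (mem_sup_left (mem_zpowers z)))
  have hym := hmem (hP (mem_sup_right (mem_zpowers y)))
  have h1 : a⁻¹ * z * a = z := by simpa using h a⁻¹ (by simpa using hzm)
  have h2 : a⁻¹ * y * a = z := by
    have e : a⁻¹ * y * a = (a⁻¹ * g) * z * (a⁻¹ * g)⁻¹ := by rw [hy]; group
    rw [e]; exact h _ (e ▸ hym)
  exact mul_left_cancel (mul_right_cancel (h2.trans h1.symm))

theorem odd_pPrimeCore : Odd (Nat.card (pPrimeCore 2 G)) := by
  exact Nat.coprime_two_right.1 (Cores.coprime_card_pPrimeCore 2)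

/-- An isolated 2-element centralising `O(G)` is central. -/
theorem mem_center_of_isolated {z : G} {k : ℕ} (hk : z ^ 2 ^ k = 1) (hiso : IsIsolated z)
    (hc : ∀ o ∈ pPrimeCore 2 G, Commute z o) : z ∈ center G := by
  obtain ⟨j, -, hj⟩ := (Nat.dvd_prime_pow Nat.prime_two).1 (orderOf_dvd_of_pow_eq_one hk)
  refine mem_center_iff.2 fun g => ?_
  have hmem := ZStar.zStar_pElement ZStar.uniqueInvolution ⟨j, hj⟩ hiso g
  set o := g * z * g⁻¹ * z⁻¹ with ho
  have e : g * z * g⁻¹ = o * z := by rw [ho]; group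
  have h1 : (o * z) ^ 2 ^ k = 1 := by rw [← e, conj_pow, hk, mul_one, mul_inv_cancel]
  rw [(hc o hmem).symm.mul_pow, hk, mul_one] at h1
  have ho2 : o = 1 := by
    rw [← orderOf_eq_one_iff]
    have hodd : Odd (orderOf o) := odd_pPrimeCore.of_dvd_nat
      ((Subgroup.orderOf_mk o hmem).symm.dvd.trans (orderOf_dvd_natCard _))
    exact Nat.eq_one_of_dvd_coprimes ((Nat.coprime_two_right.2 hodd).pow_right k) dvd_rfl
      (orderOf_dvd_of_pow_eq_one h1)
  rw [ho2, one_mul] at e
  exact mul_inv_eq_iff_eq_mul.1 e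

/-- The centre of a nonabelian Sylow 2-subgroup is central. -/
theorem sylow_center (hG : SubCA G) (hns : ¬ Group.IsSolvable G) (T : Sylow 2 G)
    (hT : ∃ a ∈ (T : Subgroup G), ∃ b ∈ (T : Subgroup G), ¬ Commute a b)
    {z : G} (hz : z ∈ (T : Subgroup G)) (hzc : ∀ t ∈ (T : Subgroup G), Commute t z) : z ∈ center G := by
  haveI := Fact.mk Nat.prime_two
  obtain ⟨k, hk⟩ := T.isPGroup' ⟨z, hz⟩
  refine mem_center_of_isolated (k := k) (by simpa using congrArg Subtype.val hk)
    (isIsolated_of_fusion T hz fun g => conj_eq_of_mem hG hns T hT hz hzc) fun o ho => ?_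
  haveI : (pPrimeCore 2 G).Normal := Cores.pPrimeCore_normal 2 G
  obtain ⟨a, ha, b, hb, hne⟩ := hT
  have hM : Group.IsSolvable ↥(pPrimeCore 2 G ⊔ (T : Subgroup G)) :=
    isSolvable_sup_normal (isSolvable_of_odd_card odd_pPrimeCore) (Solvable.isSolvable_of_isPGroup T.isPGroup')
  exact commute_all hG (ne_top_of_isSolvable hns hM) (mem_sup_right hz) (mem_sup_right ha) (mem_sup_right hb)
    (hzc a ha) (hzc b hb) hne (mem_sup_left ho)

end Cfsg.Agent.MinNonCA
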