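import Cfsg.Agent.Lib.MinNonCA.Fusion
import Cfsg.Agent.Lib.AbelianTwoFactor.Basic
import Cfsg.Agent.Lib.Transfer.FusionInvariant

/-!
# A nonabelian Sylow 2-subgroup

* `commute_of_normalizing` : an element normalising a centraliser makes it abelian
* `sylow_ca`, `exists_second_center`, `sq_center`, `inverts`, `dichotomy`
* `exists_partner`, `commute_of_involution` : involutions modulo the centre
-/

set_option autoImplicit false
set_option linter.style.haveILetI false
set_option linter.unusedSectionVars false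

namespace Cfsg.Agent.MinNonCA

open Subgroup

universe u

variable {G : Type u} [Group G] [Finite G]

theorem commute_of_normalizing (hG : SubCA G) (hns : ¬ Group.IsSolvable G) {x n : G} (hx : x ∉ center G)
    (hn : ∀ c, Commute c x → Commute (n * c * n⁻¹) x) (hxn : ¬ Commute x n) {a b : G}
    (ha : Commute a x) (hb : Commute b x) : Commute a b := by
  set C := centralizer ({x} : Set G) with hC
  have hmem : ∀ {c : G}, c ∈ C ↔ Commute c x := fun {c} => mem_centralizer_singleton_iff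
  set H := C ⊔ zpowers n with hH
  by_cases htop : H = ⊤
  · exfalso
    have hle : H ≤ normalizer (C : Set G) := sup_le le_normalizer
      (zpowers_le.2 (Coprime.mem_normalizer_of_forall fun c hc => hmem.2 (hn c (hmem.1 hc))))
    haveI : C.Normal := normalizer_eq_top_iff.1 (eq_top_iff.2 (htop ▸ hle))
    have hCs : Group.IsSolvable C := by_contra fun h =>
      hx (mem_center_of_centralizes hG h fun c hc => (hmem.1 hc).symm)
    exact ne_top_of_isSolvable hns (isSolvable_sup_normal hCs (inferInstance : Group.IsSolvable (zpowers n))) htop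
  · exact commute_in_cent hG htop (mem_sup_left (hmem.2 (Commute.refl x))) (mem_sup_right (mem_zpowers n)) hxn
      (mem_sup_left (hmem.2 ha)) (mem_sup_left (hmem.2 hb)) ha hb

/-- An element moving `x` into `x Z`. -/
theorem commute_of_conj_center (hG : SubCA G) (hns : ¬ Group.IsSolvable G) {x n : G}
    (hz : n * x * n⁻¹ * x⁻¹ ∈ center G) (hxn : ¬ Commute x n) {a b : G}
    (ha : Commute a x) (hb : Commute b x) : Commute a b := by
  refine commute_of_normalizing hG hns (fun h => hxn (mem_center_iff.1 h n).symm) (fun c hc => ?_) hxn ha hb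
  have h1 : Commute (n * c * n⁻¹) (n * x * n⁻¹) := hc.map (MulAut.conj n).toMonoidHom
  have h2 : Commute (n * c * n⁻¹) (n * x * n⁻¹ * x⁻¹) := mem_center_iff.1 hz _
  have h3 := h2.inv_right.mul_right h1
  rwa [show (n * x * n⁻¹ * x⁻¹)⁻¹ * (n * x * n⁻¹) = x by group] at h3

variable (hG : SubCA G) (hns : ¬ Group.IsSolvable G) (T : Sylow 2 G)
    (hT : ∃ a ∈ (T : Subgroup G), ∃ b ∈ (T : Subgroup G), ¬ Commute a b)
include hG hns hT

theorem exists_moving {a : G} (ha : a ∈ (T : Subgroup G)) (haZ : a ∉ center G) :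
    ∃ n ∈ (T : Subgroup G), ¬ Commute a n := by
  by_contra hcon
  push Not at hcon
  exact haZ (sylow_center hG hns T hT ha fun t ht => (hcon t ht).symm)

omit hT in
theorem sylow_ne_top : (T : Subgroup G) ≠ ⊤ := by
  haveI := Fact.mk Nat.prime_two
  exact ne_top_of_isSolvable hns (Solvable.isSolvable_of_isPGroup T.isPGroup')

/-- `T` is a CA-group. -/
theorem sylow_ca {a b t : G} (ha : a ∈ (T : Subgroup G)) (haZ : a ∉ center G) (hb : b ∈ (T : Subgroup G))
    (ht : t ∈ (T : Subgroup G)) (hab : Commute b a) (hat : Commute t a) : Commute b t := by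
  obtain ⟨n, hn, han⟩ := exists_moving hG hns T hT ha haZ
  exact commute_in_cent hG (sylow_ne_top hG hns T) ha hn han hb ht hab hat

theorem exists_second_center : ∃ x ∈ (T : Subgroup G), x ∉ center G ∧ x * x ∈ center G ∧
    ∀ t ∈ (T : Subgroup G), t * x * t⁻¹ * x⁻¹ ∈ center G := by
  haveI := Fact.mk Nat.prime_two
  set Z := center (T : Subgroup G) with hZ
  have hup : ∀ z : (T : Subgroup G), z ∈ Z → (z : G) ∈ center G := fun z hz =>
    sylow_center hG hns T hT z.2 fun t ht => congrArg Subtype.val (mem_center_iff.1 hz ⟨t, ht⟩)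
  obtain ⟨a, ha, b, hb, hab⟩ := hT
  have haZ : (⟨a, ha⟩ : (T : Subgroup G)) ∉ Z := fun h =>
    hab (congrArg Subtype.val (mem_center_iff.1 h ⟨b, hb⟩)).symm
  haveI : Nontrivial ((T : Subgroup G) ⧸ Z) :=
    ⟨⟨QuotientGroup.mk ⟨a, ha⟩, 1, fun h => haZ ((QuotientGroup.eq_one_iff _).1 h)⟩⟩
  have hQ : IsPGroup 2 ((T : Subgroup G) ⧸ Z) := T.isPGroup'.to_quotient Z
  haveI := hQ.center_nontrivial
  obtain ⟨c, hc, hco⟩ := AbelianTwoFactor.exists_involution_mem (hQ.to_subgroup (center _))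
    ((nontrivial_iff_ne_bot _).1 inferInstance)
  obtain ⟨x, rfl⟩ := QuotientGroup.mk_surjective c
  refine ⟨x, x.2, fun h => Involution.ne_one hco ((QuotientGroup.eq_one_iff _).2 (mem_center_iff.2 fun t =>
    Subtype.ext (mem_center_iff.1 h t))), ?_, fun t ht => ?_⟩
  · exact hup (x * x) ((QuotientGroup.eq_one_iff _).1 (by rw [QuotientGroup.mk_mul, Involution.mul_self hco]))
  · refine hup (⟨t, ht⟩ * x * ⟨t, ht⟩⁻¹ * x⁻¹) ((QuotientGroup.eq_one_iff _).1 ?_)
    rw [QuotientGroup.mk_mul, QuotientGroup.mk_mul, QuotientGroup.mk_mul, QuotientGroup.mk_inv,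
      QuotientGroup.mk_inv, mem_center_iff.1 hc, mul_inv_cancel_right, mul_inv_cancel]

variable {x : G} (hx : x ∈ (T : Subgroup G)) (hxZ : x ∉ center G) (hx2 : x * x ∈ center G)
    (hxc : ∀ t ∈ (T : Subgroup G), t * x * t⁻¹ * x⁻¹ ∈ center G)
include hx hxZ hx2 hxc

theorem sq_commute {s : G} (hs : s ∈ (T : Subgroup G)) : Commute (s * s) x := by
  set z := s * x * s⁻¹ * x⁻¹ with hz
  have hzc : ∀ g, g * z = z * g := mem_center_iff.1 (hxc s hs)
  have h1 : s * x * s⁻¹ = z * x := by rw [hz]; group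
  have h2 : x * x = (z * x) * (z * x) := by
    rw [← h1, show s * x * s⁻¹ * (s * x * s⁻¹) = s * (x * x) * s⁻¹ by group,
      mem_center_iff.1 hx2 s, mul_inv_cancel_right]
  have hzz : z * z = 1 := by
    have h3 : z * x * (z * x) = z * z * (x * x) := by
      rw [show z * x * (z * x) = z * (x * z) * x by group, hzc x]; group
    exact mul_eq_right.1 (h3.symm.trans h2.symm)
  show s * s * x = x * (s * s)
  rw [← mul_inv_eq_iff_eq_mul, show s * s * x * (s * s)⁻¹ = s * (s * x * s⁻¹) * s⁻¹ by group, h1,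
    show s * (z * x) * s⁻¹ = (s * z) * x * s⁻¹ by group, hzc s,
    show z * s * x * s⁻¹ = z * (s * x * s⁻¹) by group, h1, ← mul_assoc, hzz, one_mul]

theorem sq_center {s : G} (hs : s ∈ (T : Subgroup G)) (hsA : ¬ Commute s x) : s * s ∈ center G := by
  by_contra h
  exact hsA (sylow_ca hG hns T hT (mul_mem hs hs) h hs hx ((Commute.refl s).mul_right (Commute.refl s))
    (sq_commute hG hns T hT hx hxZ hx2 hxc hs).symm)

theorem inverts {s a : G} (hs : s ∈ (T : Subgroup G)) (hsA : ¬ Commute s x) (ha : a ∈ (T : Subgroup G))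
    (hax : Commute a x) : s * a * s⁻¹ * a ∈ center G := by
  have h1 : ¬ Commute (s * a) x := fun h => hsA (by simpa using h.mul_left hax.inv_left)
  have h2 := mul_mem (inv_mem (sq_center hG hns T hT hx hxZ hx2 hxc hs hsA))
    (sq_center hG hns T hT hx hxZ hx2 hxc (mul_mem hs ha) h1)
  have hc := mem_center_iff.1 (sq_center hG hns T hT hx hxZ hx2 hxc hs hsA) (s * a * s⁻¹)
  rw [show (s * s)⁻¹ * (s * a * (s * a)) = (s * s)⁻¹ * (s * a * s⁻¹ * (s * s)) * a by group, hc] at h2
  simpa [mul_assoc] using h2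

theorem center_of_commute {s a : G} (hs : s ∈ (T : Subgroup G)) (hsA : ¬ Commute s x)
    (ha : a ∈ (T : Subgroup G)) (hax : Commute a x) (has : Commute a s) : a ∈ center G := by
  by_contra h
  exact hsA (sylow_ca hG hns T hT ha h hs hx has.symm hax.symm)

theorem dichotomy : (∀ t ∈ (T : Subgroup G), t * t ∈ center G) ∨
    ∀ s₁ ∈ (T : Subgroup G), ∀ s₂ ∈ (T : Subgroup G), ¬ Commute s₁ x → ¬ Commute s₂ x → Commute (s₁ * s₂) x := by
  by_contra hcon
  push Not at hcon
  obtain ⟨⟨t, ht, ht2⟩, s₁, hs₁, s₂, hs₂, h1, h2, h12⟩ := hcon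
  have htx : Commute t x := by_contra fun h => ht2 (sq_center hG hns T hT hx hxZ hx2 hxc ht h)
  refine ht2 ?_
  have e1 := inverts hG hns T hT hx hxZ hx2 hxc hs₁ h1 ht htx
  have e2 := inverts hG hns T hT hx hxZ hx2 hxc hs₂ h2 ht htx
  have e3 := inverts hG hns T hT hx hxZ hx2 hxc (mul_mem hs₁ hs₂) h12 ht htx
  set z := s₂ * t * s₂⁻¹ * t with hz
  set z' := s₁ * t * s₁⁻¹ * t with hz'
  have e4 : s₁ * s₂ * t * (s₁ * s₂)⁻¹ * t = z * z'⁻¹ * (t * t) := by
    have hc := mem_center_iff.1 e2 s₁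
    calc s₁ * s₂ * t * (s₁ * s₂)⁻¹ * t = s₁ * (z * t⁻¹) * s₁⁻¹ * t := by rw [hz]; group
      _ = z * (s₁ * t⁻¹ * s₁⁻¹) * t := by rw [show s₁ * (z * t⁻¹) = z * (s₁ * t⁻¹) by rw [← mul_assoc, hc, mul_assoc]]; group
      _ = z * (t * z'⁻¹) * t := by rw [hz']; group
      _ = _ := by
        rw [show z * (t * z'⁻¹) * t = z * ((t * z'⁻¹) * t) by group, mem_center_iff.1 (inv_mem e1) t]
        group
  rw [e4] at e3
  have := mul_mem (inv_mem (mul_mem e2 (inv_mem e1))) e3
  rwa [inv_mul_cancel_left] at this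

omit hx hxZ hx2 hxc in
/-- An involution modulo the centre in `T` is moved into its coset by an element of `T`. -/
theorem exists_partner {w : G} (hw : w ∈ (T : Subgroup G)) (hwZ : w ∉ center G) (hw2 : w * w ∈ center G) :
    ∃ n ∈ (T : Subgroup G), ¬ Commute w n ∧ n * w * n⁻¹ * w⁻¹ ∈ center G := by
  obtain ⟨x, hx, hxZ, hx2, hxc⟩ := exists_second_center hG hns T hT
  by_cases hwx : Commute w x
  · obtain ⟨s, hs, hxs⟩ := exists_moving hG hns T hT hx hxZ
    have hsA : ¬ Commute s x := fun h => hxs h.symm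
    refine ⟨s, hs, fun h => hwZ (center_of_commute hG hns T hT hx hxZ hx2 hxc hs hsA hw hwx h), ?_⟩
    have := mul_mem (inverts hG hns T hT hx hxZ hx2 hxc hs hsA hw hwx) (inv_mem hw2)
    rwa [mul_inv_rev, ← mul_assoc, mul_inv_cancel_right] at this
  · refine ⟨x, hx, hwx, ?_⟩
    have := inv_mem (hxc w hw)
    rwa [show (w * x * w⁻¹ * x⁻¹)⁻¹ = x * w * x⁻¹ * w⁻¹ by group] at this

omit hx hxZ hx2 hxc in
theorem commute_of_involution {w : G} {k : ℕ} (hw : w ^ 2 ^ k = 1) (hwZ : w ∉ center G)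
    (hw2 : w * w ∈ center G) {a b : G} (ha : Commute a w) (hb : Commute b w) : Commute a b := by
  haveI := Fact.mk Nat.prime_two
  obtain ⟨j, -, hj⟩ := (Nat.dvd_prime_pow Nat.prime_two).1 (orderOf_dvd_of_pow_eq_one hw)
  obtain ⟨g, hwT⟩ := Transfer.exists_conj_mem_sylow T hj
  have hmem : ∀ {y : G}, y ∈ center G ↔ g * y * g⁻¹ ∈ center G := fun {y} => by
    refine ⟨fun h => (inferInstance : (center G).Normal).conj_mem y h g, fun h => ?_⟩
    have := (inferInstance : (center G).Normal).conj_mem _ h g⁻¹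
    rwa [show g⁻¹ * (g * y * g⁻¹) * g⁻¹⁻¹ = y by group] at this
  obtain ⟨n, hn, hwn, hnz⟩ := exists_partner hG hns T hT hwT (fun h => hwZ (hmem.2 h)) (by
    rw [show g * w * g⁻¹ * (g * w * g⁻¹) = g * (w * w) * g⁻¹ by group]; exact hmem.1 hw2)
  have := commute_of_conj_center hG hns hnz hwn (ha.map (MulAut.conj g).toMonoidHom) (hb.map (MulAut.conj g).toMonoidHom)
  have h2 := this.map (MulAut.conj g⁻¹).toMonoidHom
  simpa [mul_assoc] using h2

end Cfsg.Agent.MinNonCA
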