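import Cfsg.Agent.Lib.MinNonCA.Setting

/-!
# A kernel with nonabelian Sylow 2-subgroups forces a CA-group

* `odd_mem_sup` : elements of odd order lie in `N Z(G)`
* `commute_of_nonabelian` : all centralisers of noncentral elements are abelian
-/

set_option autoImplicit false
set_option linter.style.haveILetI false
set_option linter.unusedSectionVars false

namespace Cfsg.Agent.MinNonCA

open Subgroup

universe u

variable {G : Type u} [Group G] [Finite G]

theorem commute_of_conj_mem_zpowers {H : Type u} [Group H] [Finite H] {a g : H} {m n : ℕ}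
    (ha : orderOf a = 2 ^ m) (hn : Odd n) (hg : g ^ n = 1) (hga : g * a * g⁻¹ ∈ zpowers a) : Commute g a := by
  obtain ⟨i, hi⟩ := mem_powers_iff_mem_zpowers.2 hga
  simp only at hi
  have hiter : ∀ k : ℕ, g ^ k * a * (g ^ k)⁻¹ = a ^ i ^ k := by
    intro k
    induction k with
    | zero => simp
    | succ k ih =>
      rw [pow_succ' g, show g * g ^ k * a * (g * g ^ k)⁻¹ = g * (g ^ k * a * (g ^ k)⁻¹) * g⁻¹ by group, ih,
        ← conj_pow, ← hi, ← pow_mul, ← pow_succ']
  have h1 := hiter n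
  rw [hg, one_mul, inv_one, mul_one] at h1
  have h2 : i ^ n ≡ 1 [MOD orderOf a] := (pow_eq_pow_iff_modEq.1 (by rw [pow_one]; exact h1.symm))
  refine mul_inv_eq_iff_eq_mul.1 (hi.symm.trans ?_)
  rcases Nat.eq_zero_or_pos m with rfl | hm
  · rw [pow_zero, orderOf_eq_one_iff] at ha
    rw [ha, one_pow]
  haveI : Fact (Nat.Prime 2) := ⟨Nat.prime_two⟩
  have h3 : (i : ZMod (2 ^ m)) ^ n = 1 := by
    rw [← Nat.cast_pow, ← Nat.cast_one, ZMod.natCast_eq_natCast_iff]
    rwa [← ha]
  have hu : IsUnit (i : ZMod (2 ^ m)) := .of_pow_eq_one h3 (by obtain ⟨j, rfl⟩ := hn; omega)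
  have h4 : hu.unit ^ n = 1 := Units.ext (by simpa using h3)
  have h5 : hu.unit ^ (2 ^ (m - 1)) = 1 := by
    haveI : NeZero (2 ^ m) := ⟨by positivity⟩
    have := pow_card_eq_one (x := hu.unit)
    rwa [ZMod.card_units_eq_totient, Nat.totient_prime_pow Nat.prime_two hm, show 2 - 1 = 1 from rfl, mul_one] at this
  have h6 : hu.unit = 1 := orderOf_eq_one_iff.1 (Nat.eq_one_of_dvd_coprimes
    ((Nat.coprime_two_right.2 hn).pow_right (m - 1)) (orderOf_dvd_of_pow_eq_one h4) (orderOf_dvd_of_pow_eq_one h5))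
  have h7 : (i : ZMod (2 ^ m)) = ((1 : ℕ) : ZMod (2 ^ m)) := by
    rw [Nat.cast_one]; exact congrArg Units.val h6
  rw [ZMod.natCast_eq_natCast_iff, ← ha, ← pow_eq_pow_iff_modEq, pow_one] at h7
  exact h7

theorem commute_of_commute_mod {g u : G} (hg : Odd (orderOf g)) {k : ℕ} (hu : u ^ 2 ^ k = 1)
    (h : g * u * g⁻¹ * u⁻¹ ∈ center G) : Commute g u := by
  set z := g * u * g⁻¹ * u⁻¹ with hz
  have hzc := mem_center_iff.1 h
  have h1 : g * u * g⁻¹ = z * u := by rw [hz]; group
  have h2 : z ^ 2 ^ k = 1 := by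
    have : (z * u) ^ 2 ^ k = 1 := by rw [← h1, conj_pow, hu, mul_one, mul_inv_cancel]
    rwa [(show Commute z u from (hzc u).symm).mul_pow, hu, mul_one] at this
  have h3 := conj_pow_of_fixed h1 (hzc g) (orderOf g)
  rw [pow_orderOf_eq_one, one_mul, inv_one, mul_one, eq_comm, mul_eq_right] at h3
  have h4 : z = 1 := orderOf_eq_one_iff.1 (Nat.eq_one_of_dvd_coprimes ((Nat.coprime_two_right.2 hg).pow_right k)
    (orderOf_dvd_of_pow_eq_one h3) (orderOf_dvd_of_pow_eq_one h2))
  rw [h4, one_mul] at h1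
  exact mul_inv_eq_iff_eq_mul.1 h1

/-- An element whose image has nontrivial odd order has a power of odd order outside. -/
theorem exists_odd_power {W : Subgroup G} [W.Normal] {x g : G} (hg : Odd (orderOf g)) (hgW : g ∉ W)
    (hx : (x : G ⧸ W) = g) : ∃ k : ℕ, Odd (orderOf (x ^ 2 ^ k)) ∧ x ^ 2 ^ k ∉ W := by
  obtain ⟨k, o, ho, hko⟩ := Nat.exists_eq_two_pow_mul_odd (orderOf_pos x).ne'
  refine ⟨k, ho.of_dvd_nat (orderOf_dvd_of_pow_eq_one (by rw [← pow_mul, ← hko, pow_orderOf_eq_one])), fun h => ?_⟩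
  refine hgW (Transfer.mem_of_pow_mem_of_coprime (a := orderOf g) (b := 2 ^ k)
    ((Nat.coprime_two_right.2 hg).pow_right k) (by rw [pow_orderOf_eq_one]; exact one_mem _) ?_)
  rwa [← QuotientGroup.eq_one_iff, QuotientGroup.mk_pow, ← hx, ← QuotientGroup.mk_pow, QuotientGroup.eq_one_iff]

variable (hG : SubCA G) {N : Subgroup G} [N.Normal] (hK : Kernel N) (hL : IsPSLTop N)
    (U : Sylow 2 N) (hU : ∃ a ∈ (U : Subgroup N), ∃ b ∈ (U : Subgroup N), ¬ Commute a b)
include hG hK hL hU

omit hL hU in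
theorem center_map : center N ≤ (center G).comap N.subtype := fun _ hn => mem_center_sub hG hK.ns hn

omit hL hU in
theorem mk_sub_eq {a b : N} (h : (a : N ⧸ center N) = b) : ((a : G) : G ⧸ center G) = (b : G) :=
  congrArg (QuotientGroup.map (center N) (center G) N.subtype (center_map hG hK)) h

omit hL in
theorem centralizes_or_klein {g : G} (hg : Odd (orderOf g)) (hgU : ∀ u ∈ (U : Subgroup N), ∃ v ∈ (U : Subgroup N), g * u * g⁻¹ = v)
    {i : N} (hi : i ∈ (U : Subgroup N)) (hfix : (∀ t ∈ (U : Subgroup N), t * t ∈ center N) →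
      (i : G) ∉ center G ∧ g * i * g⁻¹ * (i : G)⁻¹ ∈ center G) (hS : Shape U) :
    ∀ u ∈ (U : Subgroup N), Commute g u := by
  haveI := Fact.mk Nat.prime_two
  set π := QuotientGroup.mk' (center G) with hπ
  have hgn : π g ^ orderOf g = 1 := by rw [← map_pow, pow_orderOf_eq_one, map_one]
  have hmk : ∀ {w v : N}, g * w * g⁻¹ = v → π g * π w * (π g)⁻¹ = π v := fun {w v} e => by
    rw [← map_mul, ← map_inv, ← map_mul, e]
  suffices key : ∀ u ∈ (U : Subgroup N), Commute (π g) (π u) by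
    intro u hu
    obtain ⟨k, hk⟩ := exists_two_pow U hu
    exact commute_of_commute_mod hg (k := k) (congrArg Subtype.val hk) (mk_commute_iff.1 (key u hu))
  have horder : ∀ u ∈ (U : Subgroup N), ∃ m, orderOf (π (u : G)) = 2 ^ m := fun u hu => by
    obtain ⟨k, hk⟩ := exists_two_pow U hu
    obtain ⟨m, -, hm⟩ := (Nat.dvd_prime_pow Nat.prime_two).1 (orderOf_dvd_of_pow_eq_one
      (x := π (u : G)) (n := 2 ^ k) (by rw [← map_pow, ← SubmonoidClass.coe_pow, hk, OneMemClass.coe_one, map_one]))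
    exact ⟨m, hm⟩
  rcases hS with ⟨a, s, ha, hs, ha2, hcov⟩ | ⟨hsq, hcard⟩
  · -- dihedral
    have hcov' : ∀ t ∈ (U : Subgroup N), π (t : G) ∈ zpowers (π (a : G)) ∨
        (π (t : G) * π (s : G) ∈ zpowers (π (a : G)) ∧ π (t : G) * π (t : G) = 1) := by
      intro t ht
      set j := QuotientGroup.map (center N) (center G) N.subtype (center_map hG hK)
      rcases hcov t ht with h | ⟨h, h2⟩
      · obtain ⟨i, hi⟩ := mem_zpowers_iff.1 h
        exact Or.inl (mem_zpowers_iff.2 ⟨i, by have := congrArg j hi; rwa [map_zpow] at this⟩)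
      · obtain ⟨i, hi⟩ := mem_zpowers_iff.1 h
        refine Or.inr ⟨mem_zpowers_iff.2 ⟨i, by have := congrArg j hi; rwa [map_zpow, map_mul] at this⟩, ?_⟩
        rw [← map_mul]
        exact (QuotientGroup.eq_one_iff _).2 (mem_center_sub hG hK.ns h2)
    have ha2' : π (a : G) * π (a : G) ≠ 1 := fun e => ha2 (by
      have h1 : (a : G) * a ∈ center G := (QuotientGroup.eq_one_iff _).1 (by rw [QuotientGroup.mk_mul]; exact e)
      exact mem_center_iff.2 fun n => Subtype.ext (mem_center_iff.1 h1 n))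
    have hca : Commute (π g) (π (a : G)) := by
      obtain ⟨v, hv, hgv⟩ := hgU a ha
      obtain ⟨m, hm⟩ := horder a ha
      refine commute_of_conj_mem_zpowers hm hg hgn ?_
      rw [hmk hgv]
      refine (hcov' v hv).resolve_right fun ⟨_, h2⟩ => ha2' ?_
      rw [← hmk hgv] at h2
      rwa [show π g * π a * (π g)⁻¹ * (π g * π a * (π g)⁻¹) = π g * (π a * π a) * (π g)⁻¹ by group,
        conj_eq_one_iff] at h2
    have hcz : ∀ {y}, y ∈ zpowers (π (a : G)) → Commute (π g) y := fun {y} hy => by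
      obtain ⟨i, rfl⟩ := mem_zpowers_iff.1 hy
      exact hca.zpow_right i
    intro u hu
    rcases hcov' u hu with h | ⟨h, -⟩
    · exact hcz h
    obtain ⟨v, hv, hgv⟩ := hgU u hu
    rcases hcov' v hv with h' | ⟨h', -⟩
    · have h1 : π (u : G) = π (v : G) := by
        have := hcz h'
        rw [← hmk hgv] at this
        have h2 : π g * (π g * π u * (π g)⁻¹) * (π g)⁻¹ = π g * π u * (π g)⁻¹ := by
          rw [this.eq, mul_inv_cancel_right]
        rw [← hmk hgv]
        exact (mul_left_cancel (mul_right_cancel h2)).symm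
      exact hcz (h1 ▸ h')
    · set c := π (v : G) * (π (u : G))⁻¹ with hc
      have hcm : c ∈ zpowers (π (a : G)) := by
        rw [hc, show π (v : G) * (π (u : G))⁻¹ = π (v : G) * π (s : G) * (π (u : G) * π (s : G))⁻¹ by group]
        exact mul_mem h' (inv_mem h)
      have h1 : π g * π u * (π g)⁻¹ = c * π u := by rw [hmk hgv, hc, inv_mul_cancel_right]
      have h2 := conj_pow_of_fixed h1 (hcz hcm) (orderOf g)
      rw [hgn, one_mul, inv_one, mul_one, eq_comm, mul_eq_right] at h2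
      obtain ⟨m, hm⟩ := horder a ha
      have h3 : c = 1 := orderOf_eq_one_iff.1 (Nat.eq_one_of_dvd_coprimes ((Nat.coprime_two_right.2 hg).pow_right m)
        (orderOf_dvd_of_pow_eq_one h2) (hm ▸ orderOf_dvd_of_mem_zpowers hcm))
      rw [h3, one_mul] at h1
      exact mul_inv_eq_iff_eq_mul.1 h1
  · -- a four group
    obtain ⟨hiZ, hgi⟩ := hfix hsq
    have hgi' : Commute (π g) (π (i : G)) := mk_commute_iff.2 hgi
    have hi1 : π (i : G) ≠ 1 := fun e => hiZ ((QuotientGroup.eq_one_iff _).1 e)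
    set E := ((U : Subgroup N).map (QuotientGroup.mk' (center N))).map
      (QuotientGroup.map (center N) (center G) N.subtype (center_map hG hK)) with hE
    have hEcard : Nat.card E ≤ 4 := hcard ▸ Nat.le_of_dvd Nat.card_pos (card_map_dvd _ _)
    have hmem : ∀ w ∈ (U : Subgroup N), π (w : G) ∈ E := fun w hw =>
      ⟨(w : N ⧸ center N), mem_map_of_mem _ hw, rfl⟩
    intro u hu
    by_cases hu1 : π (u : G) = 1
    · rw [hu1]; exact Commute.one_right _
    by_cases hui : π (u : G) = π (i : G)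
    · rw [hui]; exact hgi'
    obtain ⟨v, hv, hgv⟩ := hgU u hu
    have hcases : π (v : G) ∈ ({1, π (i : G), π (u : G), π (i : G) * π (u : G)} : Set (G ⧸ center G)) := by
      have hsub : ({1, π (i : G), π (u : G), π (i : G) * π (u : G)} : Set (G ⧸ center G)) ⊆ (E : Set (G ⧸ center G)) := by
        rintro y (rfl | rfl | rfl | rfl)
        exacts [one_mem E, hmem i hi, hmem u hu, mul_mem (hmem i hi) (hmem u hu)]
      have hii : π (i : G) * π (i : G) = 1 := by
        rw [← map_mul]; exact (QuotientGroup.eq_one_iff _).2 (mem_center_sub hG hK.ns (hsq i hi))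
      have hn : ({1, π (i : G), π (u : G), π (i : G) * π (u : G)} : Set (G ⧸ center G)).ncard = 4 :=
        Set.ncard_eq_four.2 ⟨_, _, _, _, hi1.symm, fun e => hu1 e.symm,
          fun e => hui (by rw [← mul_right_inj (π (i : G)), hii]; exact e.symm),
          fun e => hui e.symm, fun e => hu1 (mul_eq_left.1 e.symm), fun e => hi1 (mul_eq_right.1 e.symm), rfl⟩
      rw [Set.eq_of_subset_of_ncard_le hsub (by rw [hn, ← Nat.card_coe_set_eq]; exact hEcard)]
      exact hmem v hv
    have hgu := hmk hgv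
    rcases hcases with e | e | e | e
    · exact absurd (conj_eq_one_iff.1 (hgu.trans e)) hu1
    · refine absurd ?_ hui
      have h2 : π g * π u * (π g)⁻¹ = π g * π i * (π g)⁻¹ := by
        rw [hgu, e, hgi'.eq, mul_inv_cancel_right]
      exact mul_left_cancel (mul_right_cancel h2)
    · exact mul_inv_eq_iff_eq_mul.1 (hgu.trans e)
    · exfalso
      have h2 := conj_pow_of_fixed (hgu.trans e) hgi' (orderOf g)
      rw [hgn, one_mul, inv_one, mul_one, eq_comm, mul_eq_right] at h2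
      obtain ⟨m, hm⟩ := horder i hi
      exact hi1 (orderOf_eq_one_iff.1 (Nat.eq_one_of_dvd_coprimes ((Nat.coprime_two_right.2 hg).pow_right m)
        (orderOf_dvd_of_pow_eq_one h2) hm.dvd))

theorem odd_mem_sup (hns : ¬ Group.IsSolvable G) {g : G} (hg : Odd (orderOf g)) : g ∈ N ⊔ center G := by
  haveI := Fact.mk Nat.prime_two
  set W := N ⊔ center G with hW
  haveI : W.Normal := Subgroup.sup_normal _ _
  by_contra hgW
  obtain ⟨hS, -⟩ := hK.nonabelian_case U hU
  set M := normalizer (((U : Subgroup N).map N.subtype : Subgroup G) : Set G) with hM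
  have hMU : ∀ {m : G}, m ∈ M → ∀ u ∈ (U : Subgroup N), ∃ v ∈ (U : Subgroup N), m * u * m⁻¹ = v := fun {m} hm u hu => by
    obtain ⟨v, hv, e⟩ := (mem_normalizer_iff.1 hm (u : G)).1 (mem_map_of_mem _ hu)
    exact ⟨v, hv, e.symm⟩
  -- an odd element outside normalising `U`
  obtain ⟨m, hm, n, hn, hmn⟩ := mem_sup_of_normal_right.1
    ((Sylow.normalizer_sup_eq_top U).symm ▸ mem_top g : g ∈ M ⊔ N)
  have hmg : (m : G ⧸ W) = g := QuotientGroup.eq.2 (by
    rw [← hmn, show m⁻¹ * (m * n) = n by group]; exact mem_sup_left hn)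
  obtain ⟨k, hk, hkW⟩ := exists_odd_power hg hgW hmg
  obtain ⟨c, hc, hcW, hcU⟩ : ∃ c : G, Odd (orderOf c) ∧ c ∉ W ∧ ∀ u ∈ (U : Subgroup N), Commute c u := by
    by_cases hsq : ∀ t ∈ (U : Subgroup N), t * t ∈ center N
    swap
    · exact ⟨_, hk, hkW, centralizes_or_klein hG hK U hU hk (hMU (pow_mem hm _)) (one_mem _)
        (fun h => absurd h hsq) hS⟩
    obtain ⟨i, hi, hiZ, -, -⟩ := exists_second_center hK.subCA hK.ns U hU
    have hiZ' : (i : G) ∉ center G := fun h => hiZ (mem_center_iff.2 fun y => Subtype.ext (mem_center_iff.1 h y))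
    set π := QuotientGroup.mk' (center G) with hπ
    set m₀ := m ^ 2 ^ k with hm₀
    by_cases hfix : m₀ * i * m₀⁻¹ * (i : G)⁻¹ ∈ center G
    · exact ⟨_, hk, hkW, centralizes_or_klein hG hK U hU hk (hMU (pow_mem hm _)) hi (fun _ => ⟨hiZ', hfix⟩) hS⟩
    -- an element of `N` of odd order moving `i` modulo the centre
    obtain ⟨F, iF, iF', h4, ⟨e⟩⟩ := hL
    let P : Sylow 2 (N ⧸ center N) := U.mapSurjective (QuotientGroup.mk'_surjective _)
    have hLns : ¬ Group.IsSolvable (N ⧸ center N) := fun hs => hK.ns ((Group.isSolvable_iff_subgroup_quotient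
      (center N)).2 ⟨Group.isSolvable_of_comm fun a b => Subtype.ext (mem_center_iff.1 b.2 a), hs⟩)
    obtain ⟨y, hy, hyP⟩ := SetLike.not_le_iff_exists.1 (fun hle => hLns (isSolvable_of_sylow_central P hle))
    obtain ⟨y, rfl⟩ := QuotientGroup.mk_surjective y
    have hyM : (y : G) ∈ M := by
      refine Coprime.mem_normalizer_of_forall ?_
      rintro _ ⟨u, hu, rfl⟩
      obtain ⟨v, hv, hve⟩ : (y : N ⧸ center N) * u * (y : N ⧸ center N)⁻¹ ∈ (P : Subgroup (N ⧸ center N)) :=
        (mem_normalizer_iff.1 hy _).1 ⟨u, hu, rfl⟩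
      have hz : v⁻¹ * (y * u * y⁻¹) ∈ center N := by
        refine (QuotientGroup.eq (s := center N)).1 ?_
        rw [QuotientGroup.mk_mul, QuotientGroup.mk_mul, QuotientGroup.mk_inv]
        exact hve
      -- a central 2-element lies in `U`
      obtain ⟨k₁, hk₁⟩ := exists_two_pow U hu
      obtain ⟨k₂, hk₂⟩ := exists_two_pow U hv
      set z := v⁻¹ * (y * u * y⁻¹) with hzdef
      have hz2 : z ^ 2 ^ (k₁ + k₂) = 1 := by
        have hcv : Commute v z := mem_center_iff.1 hz v
        have h1 : (v * z) ^ 2 ^ (k₁ + k₂) = 1 := by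
          rw [hzdef, mul_inv_cancel_left, conj_pow, pow_add, pow_mul, hk₁, one_pow, mul_one, mul_inv_cancel]
        rwa [hcv.mul_pow, show v ^ 2 ^ (k₁ + k₂) = 1 by rw [pow_add, mul_comm, pow_mul, hk₂, one_pow], one_mul] at h1
      obtain ⟨j, -, hj⟩ := (Nat.dvd_prime_pow Nat.prime_two).1 (orderOf_dvd_of_pow_eq_one hz2)
      obtain ⟨q, hq⟩ := Transfer.exists_conj_mem_sylow U hj
      rw [mem_center_iff.1 hz q, mul_inv_cancel_right] at hq
      exact ⟨v * z, mul_mem hv hq, by rw [hzdef, mul_inv_cancel_left]; rfl⟩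
    obtain ⟨l, hlM, hlN, hlo, hlfix⟩ : ∃ l : G, l ∈ M ∧ l ∈ N ∧ Odd (orderOf l) ∧
        l * i * l⁻¹ * (i : G)⁻¹ ∉ center G := by
      obtain ⟨k₁, o, ho, hko⟩ := Nat.exists_eq_two_pow_mul_odd (orderOf_pos (y : G)).ne'
      have hodd : Odd (orderOf ((y : G) ^ 2 ^ k₁)) :=
        ho.of_dvd_nat (orderOf_dvd_of_pow_eq_one (by rw [← pow_mul, ← hko, pow_orderOf_eq_one]))
      refine ⟨_, pow_mem hyM _, pow_mem y.2 _, hodd, fun hfx => hyP ?_⟩
      have hall := centralizes_or_klein hG hK U hU hodd (hMU (pow_mem hyM _)) hi (fun _ => ⟨hiZ', hfx⟩) hS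
      -- the two-part of `y` lies in `U`
      have h2 : y ^ o ∈ (U : Subgroup N) := by
        have hyN : y ^ o ∈ normalizer ((U : Subgroup N) : Set N) := Coprime.mem_normalizer_of_forall fun u hu => by
          obtain ⟨v, hv, e'⟩ := hMU (pow_mem hyM o) u hu
          have h3 : y ^ o * u * (y ^ o)⁻¹ = v := Subtype.ext e'
          rwa [h3]
        have hp : IsPGroup 2 (zpowers (y ^ o)) := fun c => ⟨k₁, Subtype.ext (by
            obtain ⟨j, hj⟩ := mem_zpowers_iff.1 c.2
            have h1 : (y ^ o) ^ 2 ^ k₁ = 1 := by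
              rw [← pow_mul, mul_comm, ← hko]; exact Subtype.ext (by simp [pow_orderOf_eq_one])
            rw [SubmonoidClass.coe_pow, ← hj, ← zpow_natCast, ← zpow_mul, mul_comm, zpow_mul, zpow_natCast, h1,
              one_zpow]; rfl)⟩
        have h3 : y ^ o ∈ zpowers (y ^ o) ⊓ normalizer (U : Set N) := ⟨mem_zpowers _, hyN⟩
        rw [hp.inf_normalizer_sylow U] at h3
        exact h3.2
      refine mem_centralizer_iff.2 ?_
      rintro _ ⟨u, hu, rfl⟩
      show (u : N ⧸ center N) * y = (y : N ⧸ center N) * u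
      have ca : Commute (u : N ⧸ center N) ((y : N ⧸ center N) ^ o) := by
        rw [← QuotientGroup.mk_pow]
        refine mk_commute_iff.2 ?_
        have hsq' : ∀ {t : N}, t ∈ (U : Subgroup N) → (t : N ⧸ center N)⁻¹ = t := fun {t} ht =>
          inv_eq_of_mul_eq_one_right (by rw [← QuotientGroup.mk_mul, QuotientGroup.eq_one_iff]; exact hsq t ht)
        refine mk_commute_iff.1 ?_
        calc (u : N ⧸ center N) * ((y ^ o : N) : N ⧸ center N) = ((u * y ^ o : N) : N ⧸ center N)⁻¹ := by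
              rw [hsq' (mul_mem hu h2), QuotientGroup.mk_mul]
          _ = _ := by rw [QuotientGroup.mk_mul, mul_inv_rev, hsq' hu, hsq' h2]
      have cb : Commute (u : N ⧸ center N) ((y : N ⧸ center N) ^ 2 ^ k₁) := by
        rw [← QuotientGroup.mk_pow]
        have : Commute (y ^ 2 ^ k₁) u := Subtype.ext (hall u hu).eq
        exact (this.map (QuotientGroup.mk' (center N))).symm
      exact mem_centralizer_singleton_iff.1 (Transfer.mem_of_pow_mem_of_coprime
        (H := centralizer ({(u : N ⧸ center N)} : Set (N ⧸ center N))) ((Nat.coprime_two_left.2 ho).pow_left k₁)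
        (mem_centralizer_singleton_iff.2 cb.symm.eq) (mem_centralizer_singleton_iff.2 ca.symm.eq)) |>.symm
    -- the four classes
    have hact : ∀ {a : G}, a ∈ M → ∃ v ∈ (U : Subgroup N), π a * π (i : G) * (π a)⁻¹ = π (v : G) := fun {a} ha => by
      obtain ⟨v, hv, e'⟩ := hMU ha i hi
      exact ⟨v, hv, by rw [← map_mul, ← map_inv, ← map_mul, e']⟩
    obtain ⟨v₁, hv₁, e₁⟩ := hact hlM
    obtain ⟨v₂, hv₂, e₂⟩ := hact (mul_mem hlM hlM)
    obtain ⟨v, hv, ev⟩ := hact (show m₀ ∈ M from pow_mem hm _)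
    have hne : ∀ {a : G}, a * i * a⁻¹ * (i : G)⁻¹ ∉ center G → π a * π (i : G) * (π a)⁻¹ ≠ π (i : G) :=
      fun {a} h e' => h (mk_commute_iff.1 (mul_inv_eq_iff_eq_mul.1 e'))
    have hl2 : (l * l) * i * (l * l)⁻¹ * (i : G)⁻¹ ∉ center G := by
      intro h2
      refine hne hlfix ?_
      have hc2 : Commute (π (l * l)) (π (i : G)) := mk_commute_iff.2 h2
      obtain ⟨j, hj⟩ := hlo
      have hl : π l = π (l * l) ^ (j + 1) := by
        rw [← map_pow, ← pow_two, ← pow_mul, show 2 * (j + 1) = orderOf l + 1 by omega, pow_succ,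
          pow_orderOf_eq_one, one_mul]
      rw [hl, (hc2.pow_left (j + 1)).eq, mul_inv_cancel_right]
    have h12 : π (v₁ : G) ≠ π (v₂ : G) := fun e' => hne hlfix (by
      rw [← e₁, ← e₂, map_mul] at e'
      have h3 : π l * π (i : G) * (π l)⁻¹ = π l * (π l * π (i : G) * (π l)⁻¹) * (π l)⁻¹ := e'.trans (by group)
      exact (mul_left_cancel (mul_right_cancel h3)).symm)
    have hv₁i : π (v₁ : G) ≠ π (i : G) := e₁ ▸ hne hlfix
    have hv₂i : π (v₂ : G) ≠ π (i : G) := e₂ ▸ hne hl2
    have hvi : π (v : G) ≠ π (i : G) := ev ▸ hne hfix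
    have hi1 : π (i : G) ≠ 1 := fun e' => hiZ' ((QuotientGroup.eq_one_iff _).1 e')
    have hnot1 : ∀ {a : G} {w : N}, π a * π (i : G) * (π a)⁻¹ = π (w : G) → π (w : G) ≠ 1 := fun {a w} e' h1 =>
      hi1 (conj_eq_one_iff.1 (e'.trans h1))
    obtain hvv | hvv : π (v : G) = π (v₁ : G) ∨ π (v : G) = π (v₂ : G) := by
      set E := ((U : Subgroup N).map (QuotientGroup.mk' (center N))).map
        (QuotientGroup.map (center N) (center G) N.subtype (center_map hG hK)) with hE
      have hEcard : Nat.card E ≤ 4 := by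
        rcases hS with ⟨a, s, ha, -, ha2, -⟩ | ⟨-, hcard⟩
        · exact absurd (hsq a ha) ha2
        · exact hcard ▸ Nat.le_of_dvd Nat.card_pos (card_map_dvd _ _)
      have hmem : ∀ w ∈ (U : Subgroup N), π (w : G) ∈ E := fun w hw =>
        ⟨(w : N ⧸ center N), mem_map_of_mem _ hw, rfl⟩
      have hsub : ({1, π (i : G), π (v₁ : G), π (v₂ : G)} : Set (G ⧸ center G)) ⊆ (E : Set (G ⧸ center G)) := by
        rintro y (rfl | rfl | rfl | rfl)
        exacts [one_mem E, hmem i hi, hmem v₁ hv₁, hmem v₂ hv₂]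
      have hn4 : ({1, π (i : G), π (v₁ : G), π (v₂ : G)} : Set (G ⧸ center G)).ncard = 4 :=
        Set.ncard_eq_four.2 ⟨_, _, _, _, hi1.symm, (hnot1 e₁).symm, (hnot1 e₂).symm, hv₁i.symm, hv₂i.symm, h12, rfl⟩
      have h5 : π (v : G) ∈ ({1, π (i : G), π (v₁ : G), π (v₂ : G)} : Set (G ⧸ center G)) := by
        rw [Set.eq_of_subset_of_ncard_le hsub (by rw [hn4, ← Nat.card_coe_set_eq]; exact hEcard)]
        exact hmem v hv
      rcases h5 with h | h | h | h
      exacts [absurd h (hnot1 ev), absurd h hvi, Or.inl h, Or.inr h]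
    all_goals
      have hfin : ∀ (l₀ : G), l₀ ∈ N → l₀ ∈ M → π l₀ * π (i : G) * (π l₀)⁻¹ = π (v : G) →
          ∃ c : G, Odd (orderOf c) ∧ c ∉ W ∧ ∀ u ∈ (U : Subgroup N), Commute c u := fun l₀ hl₀ hl₀M e' => by
        obtain ⟨k₂, hk₂, hk₂W⟩ := exists_odd_power (x := l₀⁻¹ * m₀) hk hkW (QuotientGroup.eq.2 (by
          rw [mul_inv_rev, inv_inv, mul_assoc]
          simpa [mul_assoc] using (inferInstance : W.Normal).conj_mem l₀ (mem_sup_left hl₀) m₀⁻¹))
        have h6 : Commute (π (l₀⁻¹ * m₀)) (π (i : G)) := by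
          refine mul_inv_eq_iff_eq_mul.1 ?_
          calc π (l₀⁻¹ * m₀) * π (i : G) * (π (l₀⁻¹ * m₀))⁻¹
              = (π l₀)⁻¹ * (π m₀ * π (i : G) * (π m₀)⁻¹) * π l₀ := by rw [map_mul, map_inv]; group
            _ = π (i : G) := by rw [ev, ← e']; group
        exact ⟨_, hk₂, hk₂W, centralizes_or_klein hG hK U hU hk₂
          (hMU (pow_mem (mul_mem (inv_mem hl₀M) (pow_mem hm _)) _)) hi
          (fun _ => ⟨hiZ', mk_commute_iff.1 (by
            have := h6.pow_left (2 ^ k₂); rw [← map_pow] at this; exact this)⟩) hS⟩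
    · exact hfin l hlN hlM (e₁.trans hvv.symm)
    · exact hfin (l * l) (mul_mem hlN hlN) (mul_mem hlM hlM) (e₂.trans hvv.symm)
  obtain ⟨a, ha, b, hb, hab⟩ := hU
  have hab' : ¬ Commute (a : G) b := fun e => hab (Subtype.ext e)
  have hcZ : c ∈ center G := by
    by_cases htop : N ⊔ zpowers c = ⊤
    · have hdvd : N.index ∣ orderOf c := by
        rw [← relIndex_top_right N, ← htop, sup_comm, relIndex_sup_right, ← Nat.card_zpowers]
        exact index_dvd_card _
      have hU2 : ¬ 2 ∣ ((U : Subgroup N).map N.subtype).index := by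
        rw [index_map_subtype]
        exact fun h2 => (Nat.prime_two.dvd_mul.1 h2).elim U.not_dvd_index
          fun h3 => absurd ((hc.of_dvd_nat hdvd).of_dvd_nat h3) (by decide)
      let T : Sylow 2 G := (U.isPGroup'.map N.subtype).toSylow hU2
      refine mem_center_of_centralizes_sylow hG hns T
        ⟨a, mem_map_of_mem _ ha, b, mem_map_of_mem _ hb, hab'⟩ hc ?_
      rintro _ ⟨u, hu, rfl⟩
      exact hcU u hu
    · refine mem_center_of_centralizes hG hK.ns fun n hn => ?_
      exact commute_all hG htop (mem_sup_right (mem_zpowers c)) (mem_sup_left a.2) (mem_sup_left b.2)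
        (hcU a ha).symm (hcU b hb).symm hab' (mem_sup_left hn)
  exact hcW (mem_sup_right hcZ)

/-- With nonabelian Sylow 2-subgroups in the kernel, `G` is a CA-group. -/
theorem commute_of_nonabelian (hns : ¬ Group.IsSolvable G) {x a b : G} (hx : x ∉ center G)
    (hax : Commute a x) (hbx : Commute b x) : Commute a b := by
  haveI := Fact.mk Nat.prime_two
  obtain ⟨a₀, ha₀, b₀, hb₀, hab₀⟩ := id hU
  obtain ⟨T, hT⟩ := (U.isPGroup'.map N.subtype).exists_le_sylow
  have hTnab : ∃ a ∈ (T : Subgroup G), ∃ b ∈ (T : Subgroup G), ¬ Commute a b :=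
    ⟨a₀, hT (mem_map_of_mem _ ha₀), b₀, hT (mem_map_of_mem _ hb₀), fun e => hab₀ (Subtype.ext e)⟩
  obtain ⟨k, o, ho, hko⟩ := Nat.exists_eq_two_pow_mul_odd (orderOf_pos x).ne'
  by_cases hxo : x ^ o ∈ center G
  swap
  · -- an involution modulo the centre
    have h2 : (x ^ o) ^ 2 ^ k = 1 := by rw [← pow_mul, mul_comm, ← hko, pow_orderOf_eq_one]
    classical
    have hex : ∃ j, (x ^ o) ^ 2 ^ j ∈ center G := ⟨k, by rw [h2]; exact one_mem _⟩
    have hspec := Nat.find_spec hex
    rcases h0 : Nat.find hex with _ | j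
    · rw [h0, pow_zero, pow_one] at hspec
      exact absurd hspec hxo
    · rw [h0, pow_succ, mul_two, pow_add] at hspec
      refine commute_of_involution hG hns T hTnab (w := (x ^ o) ^ 2 ^ j) (k := k) ?_
        (Nat.find_min hex (by omega)) hspec ((hax.pow_right o).pow_right _) ((hbx.pow_right o).pow_right _)
      rw [← pow_mul (x ^ o), mul_comm, pow_mul, h2, one_pow]
  -- odd order
  set y := x ^ 2 ^ k with hy
  have hyo : Odd (orderOf y) := ho.of_dvd_nat (orderOf_dvd_of_pow_eq_one (by rw [← pow_mul, ← hko, pow_orderOf_eq_one]))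
  have hyZ : y ∉ center G := fun h => hx (Transfer.mem_of_pow_mem_of_coprime
    ((Nat.coprime_two_right.2 ho).pow_right k) hxo h)
  obtain ⟨n, hn, z, hz, hnz⟩ := mem_sup_of_normal_right.1 (odd_mem_sup hG hK hL U hU hns hyo)
  have hny : ∀ {c : G}, Commute c y → Commute c n := fun {c} hc => by
    have h1 : Commute c z := mem_center_iff.1 hz c
    rw [show n = y * z⁻¹ by rw [← hnz, mul_inv_cancel_right]]
    exact hc.mul_right h1.inv_right
  obtain ⟨k', o', ho', hko'⟩ := Nat.exists_eq_two_pow_mul_odd (orderOf_pos n).ne'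
  set n' := n ^ 2 ^ k' with hn'
  have hn'o : Odd (orderOf n') := ho'.of_dvd_nat (orderOf_dvd_of_pow_eq_one (by
    rw [← pow_mul, ← hko', pow_orderOf_eq_one]))
  have hn'Z : n' ∉ center G := fun h => hyZ (Transfer.mem_of_pow_mem_of_coprime (a := orderOf y) (b := 2 ^ k')
    ((Nat.coprime_two_right.2 hyo).pow_right k') (by rw [pow_orderOf_eq_one]; exact one_mem _) (by
      rw [← hnz, (show Commute n z from mem_center_iff.1 hz n).mul_pow]
      exact mul_mem h (pow_mem hz _)))
  have hn'N : n' ∈ N := pow_mem hn _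
  suffices h : ∀ {a b : G}, Commute a n' → Commute b n' → Commute a b from
    h ((hny (hax.pow_right _)).pow_right _) ((hny (hbx.pow_right _)).pow_right _)
  intro a b ha hb
  by_cases hmod : ∃ c : G, c ∈ N ∧ c * n' * c⁻¹ * n'⁻¹ ∈ center G ∧ ¬ Commute n' c
  · obtain ⟨c, -, hcz, hc⟩ := hmod
    exact commute_of_conj_center hG hns hcz hc ha hb
  push Not at hmod
  obtain ⟨F, iF, iF', h4, ⟨e⟩⟩ := id hL
  set nb : N := ⟨n', hn'N⟩
  set ξ := e (nb : N ⧸ center N) with hξ
  have hξ1 : ξ ≠ 1 := fun h => hn'Z (mem_center_sub hG hK.ns (show nb ∈ center N from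
    (QuotientGroup.eq_one_iff nb).1 (e.injective (h.trans (map_one e).symm))))
  have hξo : Odd (orderOf ξ) := by
    rw [hξ, MulEquiv.orderOf_eq]
    exact (show Odd (orderOf nb) by rwa [Subgroup.orderOf_mk]).of_dvd_nat
      (orderOf_map_dvd (QuotientGroup.mk' (center N)) nb)
  obtain ⟨μ, hμ, hμx⟩ := exists_not_selfnorm (F := F) (by rwa [Nat.card_eq_fintype_card]) hξ1 hξo
  obtain ⟨q, hq⟩ := (show Function.Surjective (fun c : N => e (c : N ⧸ center N)) from
    e.surjective.comp (QuotientGroup.mk'_surjective _)) μ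
  simp only at hq
  set D := N ⊓ centralizer ({n'} : Set G) with hD
  have hDmem : ∀ {d : G}, d ∈ D ↔ d ∈ N ∧ Commute d n' := fun {d} =>
    and_congr Iff.rfl mem_centralizer_singleton_iff
  have hqD : (q : G) ∈ normalizer (D : Set G) := Coprime.mem_normalizer_of_forall fun d hd => by
    obtain ⟨hdN, hdn⟩ := hDmem.1 hd
    have hconjN : (q : G) * d * (q : G)⁻¹ ∈ N := mul_mem (mul_mem q.2 hdN) (inv_mem q.2)
    refine hDmem.2 ⟨hconjN, (hmod _ hconjN ?_).symm⟩
    set dd : N := ⟨d, hdN⟩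
    have h1 : Commute (e (dd : N ⧸ center N)) ξ :=
      ((show Commute dd nb from Subtype.ext hdn.eq).map (QuotientGroup.mk' (center N))).map e.toMonoidHom
    have h2 : μ * e (dd : N ⧸ center N) * μ⁻¹ ∈ centralizer ({ξ} : Set _) :=
      (mem_normalizer_iff.1 hμ _).1 (mem_centralizer_singleton_iff.2 h1.eq)
    have h3 : Commute ((q * dd * q⁻¹ : N) : N ⧸ center N) (nb : N ⧸ center N) := by
      refine e.injective ?_
      rw [map_mul, map_mul, QuotientGroup.mk_mul, QuotientGroup.mk_mul, QuotientGroup.mk_inv, map_mul, map_mul,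
        map_inv, hq]
      exact mem_centralizer_singleton_iff.1 h2
    exact mem_center_sub hG hK.ns (mk_commute_iff.1 h3)
  have hqn : ¬ Commute n' (q : G) := fun h => hμx (by
    rw [← hq]
    exact (((show Commute q nb from Subtype.ext h.symm.eq).map (QuotientGroup.mk' (center N))).map e.toMonoidHom))
  have hle : ∀ {c : G}, Commute c n' → c ∈ normalizer (D : Set G) := fun {c} hc =>
    Coprime.mem_normalizer_of_forall fun d hd => by
      obtain ⟨hdN, hdn⟩ := hDmem.1 hd
      exact hDmem.2 ⟨(inferInstance : N.Normal).conj_mem d hdN c, (hc.mul_left hdn).mul_left hc.inv_left⟩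
  have htop : normalizer (D : Set G) ≠ ⊤ := fun h => by
    haveI : D.Normal := normalizer_eq_top_iff.1 h
    rcases normal_sub_cases hG hK hL (inf_le_left : D ≤ N) with h1 | h1
    · exact hn'Z (h1 (hDmem.2 ⟨hn'N, Commute.refl n'⟩))
    · exact hqn (hDmem.1 (h1 q.2)).2.symm
  exact commute_in_cent hG htop (hle (Commute.refl n')) hqD hqn (hle ha) (hle hb) ha hb

end Cfsg.Agent.MinNonCA
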