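import Cfsg.Agent.Lib.MinNonCA.Core

/-!
# Modulo the centre

* `center_quotient`, `oddCore_quotient`, `exists_lift`
* `star`, `starHom` : centralisers modulo the centre
-/

set_option autoImplicit false
set_option linter.style.haveILetI false
set_option linter.unusedSectionVars false

namespace Cfsg.Agent.MinNonCA

open Subgroup

universe u

variable {G : Type u} [Group G]

theorem mk_commute_iff {g w : G} : Commute (g : G ⧸ center G) (w : G ⧸ center G) ↔
    g * w * g⁻¹ * w⁻¹ ∈ center G := by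
  rw [← QuotientGroup.eq_one_iff, QuotientGroup.mk_mul, QuotientGroup.mk_mul, QuotientGroup.mk_mul,
    QuotientGroup.mk_inv, QuotientGroup.mk_inv, mul_inv_eq_one, mul_inv_eq_iff_eq_mul]
  rfl

/-- The centraliser of `w` modulo the centre. -/
def star (w : G) : Subgroup G :=
  (centralizer ({(w : G ⧸ center G)} : Set (G ⧸ center G))).comap (QuotientGroup.mk' (center G))

theorem mem_star {w g : G} : g ∈ star w ↔ g * w * g⁻¹ * w⁻¹ ∈ center G :=
  mem_comap.trans (mem_centralizer_singleton_iff.trans mk_commute_iff)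

/-- `g ↦ [g, w]` on the centraliser modulo the centre. -/
def starHom (w : G) : star w →* center G where
  toFun g := ⟨(g : G) * w * (g : G)⁻¹ * w⁻¹, mem_star.1 g.2⟩
  map_one' := Subtype.ext (by simp)
  map_mul' a b := Subtype.ext (by
    have h := mem_center_iff.1 (mem_star.1 b.2) (a : G)
    show (a : G) * b * w * ((a : G) * b)⁻¹ * w⁻¹ = (a : G) * w * (a : G)⁻¹ * w⁻¹ * ((b : G) * w * (b : G)⁻¹ * w⁻¹)
    calc (a : G) * b * w * ((a : G) * b)⁻¹ * w⁻¹
        = (a : G) * ((b : G) * w * (b : G)⁻¹ * w⁻¹) * (w * (a : G)⁻¹ * w⁻¹) := by group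
      _ = (b : G) * w * (b : G)⁻¹ * w⁻¹ * ((a : G) * w * (a : G)⁻¹ * w⁻¹) := by rw [h]; group
      _ = _ := (mem_center_iff.1 (mem_star.1 b.2) _).symm)

theorem starHom_eq_one {w : G} {g : star w} : starHom w g = 1 ↔ Commute (g : G) w := by
  constructor
  · intro h
    have h1 : (g : G) * w * (g : G)⁻¹ * w⁻¹ = 1 := congrArg Subtype.val h
    rwa [mul_inv_eq_one, mul_inv_eq_iff_eq_mul] at h1
  · intro h
    refine Subtype.ext ?_
    show (g : G) * w * (g : G)⁻¹ * w⁻¹ = 1
    rwa [mul_inv_eq_one, mul_inv_eq_iff_eq_mul]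

theorem commute_conj_of_star {w y c : G} (hc : c * w * c⁻¹ * w⁻¹ ∈ center G) (hy : Commute y w) :
    Commute (c * y * c⁻¹) w := by
  have h1 : Commute (c * y * c⁻¹) (c * w * c⁻¹) := hy.map (MulAut.conj c).toMonoidHom
  have h2 : Commute (c * y * c⁻¹) (c * w * c⁻¹ * w⁻¹) := mem_center_iff.1 hc _
  have h3 := h2.inv_right.mul_right h1
  rwa [show (c * w * c⁻¹ * w⁻¹)⁻¹ * (c * w * c⁻¹) = w by group] at h3

variable [Finite G]

theorem center_quotient (hG : SubCA G) (hns : ¬ Group.IsSolvable G) : center (G ⧸ center G) = ⊥ := by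
  refine eq_bot_iff.2 fun c hc => ?_
  obtain ⟨c, rfl⟩ := QuotientGroup.mk_surjective c
  obtain ⟨N, hN, hNns, hP⟩ := exists_perfect hns
  exact mem_bot.2 ((QuotientGroup.eq_one_iff c).2
    (mem_center_of_mod_center hG hNns hP fun n _ => mk_commute_iff.1 (mem_center_iff.1 hc (n : G ⧸ center G)).symm))

theorem oddCore_quotient (hG : SubCA G) (hns : ¬ Group.IsSolvable G) : oddCore (G ⧸ center G) = ⊥ := by
  haveI := Fact.mk Nat.prime_two
  haveI : (oddCore (G ⧸ center G)).Normal := Cores.pPrimeCore_normal 2 _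
  set π := QuotientGroup.mk' (center G) with hπ
  have h : ((oddCore (G ⧸ center G)).comap π).map π = oddCore (G ⧸ center G) :=
    map_comap_eq_self_of_surjective (QuotientGroup.mk'_surjective _) _
  rw [← h, Subgroup.map_eq_bot_iff, QuotientGroup.ker_mk']
  exact le_center_of_odd_mod_center hG hns (by rw [← hπ, h]; exact odd_pPrimeCore)

/-- An involution modulo the centre lifts to a 2-element. -/
theorem exists_lift {ū : G ⧸ center G} (hu : orderOf ū = 2) :
    ∃ (w : G) (k : ℕ), w ^ 2 ^ k = 1 ∧ w ∉ center G ∧ w * w ∈ center G ∧ (w : G ⧸ center G) = ū := by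
  obtain ⟨g, rfl⟩ := QuotientGroup.mk_surjective ū
  obtain ⟨k, o, ho, hko⟩ := Nat.exists_eq_two_pow_mul_odd (orderOf_pos g).ne'
  have h2 : (g : G ⧸ center G) ^ 2 = 1 := hu ▸ pow_orderOf_eq_one _
  have hw : ((g ^ o : G) : G ⧸ center G) = g := by
    obtain ⟨j, rfl⟩ := ho
    rw [QuotientGroup.mk_pow, pow_succ, pow_mul, h2, one_pow, one_mul]
  refine ⟨g ^ o, k, by rw [← pow_mul, mul_comm, ← hko, pow_orderOf_eq_one], fun h => ?_, ?_, hw⟩
  · exact Involution.ne_one hu (hw.symm.trans ((QuotientGroup.eq_one_iff _).2 h))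
  · rw [← QuotientGroup.eq_one_iff, QuotientGroup.mk_mul, hw, ← pow_two, h2]

theorem orderOf_mk_two {w : G} (hwZ : w ∉ center G) (hw2 : w * w ∈ center G) :
    orderOf (w : G ⧸ center G) = 2 :=
  Involution.orderOf_of_sq (by rw [← QuotientGroup.mk_mul, QuotientGroup.eq_one_iff]; exact hw2)
    (fun h => hwZ ((QuotientGroup.eq_one_iff w).1 h))

theorem isSolvable_centralizer_quotient {w : G} (h : Group.IsSolvable (centralizer ({w} : Set G))) :
    Group.IsSolvable (centralizer ({(w : G ⧸ center G)} : Set (G ⧸ center G))) := by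
  haveI := h
  have hle : centralizer ({w} : Set G) ≤ star w := fun g hg => mem_star.2 (by
    have h1 : Commute g w := mem_centralizer_singleton_iff.1 hg
    rw [h1.eq, mul_inv_cancel_right, mul_inv_cancel]
    exact one_mem _)
  haveI : Group.IsSolvable (center G) := Group.isSolvable_of_comm fun a b => Subtype.ext (mem_center_iff.1 b.2 a)
  haveI : Group.IsSolvable (star w) := Group.isSolvable_of_ker_le_range (Subgroup.inclusion hle) (starHom w)
    fun g hg => ⟨⟨g, mem_centralizer_singleton_iff.2 (starHom_eq_one.1 hg).eq⟩, Subtype.ext rfl⟩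
  haveI : Group.IsSolvable ↥((centralizer ({(w : G ⧸ center G)} : Set (G ⧸ center G))).comap
      (QuotientGroup.mk' (center G))) := (inferInstance : Group.IsSolvable (star w))
  exact Group.isSolvable_of_surjective
    (f := (QuotientGroup.mk' (center G)).subgroupComap (centralizer ({(w : G ⧸ center G)} : Set (G ⧸ center G))))
    (MonoidHom.subgroupComap_surjective_of_surjective _ _ (QuotientGroup.mk'_surjective _))

end Cfsg.Agent.MinNonCA
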