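import Cfsg.Agent.Lib.MinNonCA.Quotient
import Cfsg.Agent.S1221
import Cfsg.Agent.Lib.Involution.StronglyEmbedded

/-!
# No noncentral element of odd order centralises a nonabelian Sylow 2-subgroup

* `mem_center_of_centralizes_sylow`
-/

set_option autoImplicit false
set_option linter.style.haveILetI false
set_option linter.unusedSectionVars false

namespace Cfsg.Agent.MinNonCA

open Subgroup

universe u

variable {G : Type u} [Group G] [Finite G]

theorem mem_center_of_centralizes_sylow (hG : SubCA G) (hns : ¬ Group.IsSolvable G) (T : Sylow 2 G)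
    (hT : ∃ a ∈ (T : Subgroup G), ∃ b ∈ (T : Subgroup G), ¬ Commute a b) {y : G} (hy : Odd (orderOf y))
    (hc : ∀ t ∈ (T : Subgroup G), Commute y t) : y ∈ center G := by
  haveI := Fact.mk Nat.prime_two
  by_contra hyZ
  set M := centralizer ({y} : Set G) with hM
  have hmem : ∀ {g : G}, g ∈ M ↔ Commute g y := fun {g} => mem_centralizer_singleton_iff
  have hTM : (T : Subgroup G) ≤ M := fun t ht => hmem.2 (hc t ht).symm
  have hMtop : M ≠ ⊤ := fun e => hyZ (mem_center_iff.2 fun g => (hmem.1 (e ▸ mem_top g)).eq)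
  have hZM : center G ≤ M := fun z hz => hmem.2 (mem_center_iff.1 hz y).symm
  obtain ⟨a, ha, b, hb, hab⟩ := hT
  have hT' : ∃ a ∈ (T : Subgroup G), ∃ b ∈ (T : Subgroup G), ¬ Commute a b := ⟨a, ha, b, hb, hab⟩
  -- `M` is its own normaliser
  have hNM : normalizer (M : Set G) ≤ M := by
    by_cases htop : normalizer (M : Set G) = ⊤
    · exfalso
      haveI : M.Normal := normalizer_eq_top_iff.1 htop
      refine hyZ (mem_center_of_centralizes hG (not_isSolvable_of_odd_index hns M ?_)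
        fun n hn => (hmem.1 hn).symm)
      exact Nat.odd_iff.2 (Nat.two_dvd_ne_zero.1 fun h2 => T.not_dvd_index (h2.trans (index_dvd_of_le hTM)))
    · intro g hg
      exact hmem.2 (commute_all hG htop (le_normalizer (hmem.2 (Commute.refl y))) (le_normalizer (hTM ha))
        (le_normalizer (hTM hb)) (hc a ha).symm (hc b hb).symm hab hg).symm
  -- partners inside `M`
  have hpart : ∀ {w : G} {k : ℕ}, w ∈ M → w ^ 2 ^ k = 1 → w ∉ center G → w * w ∈ center G →
      ∃ n ∈ M, ¬ Commute w n ∧ n * w * n⁻¹ * w⁻¹ ∈ center G := by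
    intro w k hwM hw hwZ hw2
    obtain ⟨j, -, hj⟩ := (Nat.dvd_prime_pow Nat.prime_two).1 (orderOf_dvd_of_pow_eq_one hw)
    obtain ⟨⟨h, hh⟩, hconj⟩ := Transfer.exists_conj_mem_sylow (T.subtype hTM) (t := (⟨w, hwM⟩ : M)) (k := j)
      (by rw [Subgroup.orderOf_mk]; exact hj)
    have hwT : h * w * h⁻¹ ∈ (T : Subgroup G) := hconj
    have hZ : ∀ {g c : G}, c ∈ center G → g * c * g⁻¹ ∈ center G := fun {g c} hc =>
      (inferInstance : (center G).Normal).conj_mem c hc g
    obtain ⟨n, hn, hwn, hnz⟩ := exists_partner hG hns T hT' hwT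
      (fun e => hwZ (by simpa [mul_assoc] using hZ (g := h⁻¹) e))
      (by rw [show h * w * h⁻¹ * (h * w * h⁻¹) = h * (w * w) * h⁻¹ by group]; exact hZ hw2)
    refine ⟨h⁻¹ * n * h, mul_mem (mul_mem (inv_mem hh) (hTM hn)) hh, fun e => hwn ?_, ?_⟩
    · have := e.map (MulAut.conj h).toMonoidHom
      simpa [mul_assoc] using this
    · have := hZ (g := h⁻¹) hnz
      simpa [mul_assoc] using this
  have hcentM : ∀ {w : G} {k : ℕ}, w ∈ M → w ^ 2 ^ k = 1 → w ∉ center G → w * w ∈ center G →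
      ∀ c, Commute c w → c ∈ M := fun {w k} hwM hw hwZ hw2 c hcw =>
    hmem.2 (commute_of_involution hG hns T hT' hw hwZ hw2 hcw (hmem.1 hwM).symm)
  -- an element of `M` commuting with a noncommuting pair of `M` is central in `M`
  have hfix : ∀ {y' w n g : G}, y' ∈ M → w ∈ M → n ∈ M → ¬ Commute w n → Commute w y' → Commute n y' →
      y' = g * y * g⁻¹ → g ∈ M := by
    intro y' w n g hy' hw hn hwn h1 h2 he
    refine inv_inv g ▸ inv_mem (hNM (Coprime.mem_normalizer_of_forall fun m hm => hmem.2 ?_))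
    have h3 := (commute_all hG hMtop hy' hw hn h1 h2 hwn hm).map (MulAut.conj g⁻¹).toMonoidHom
    rw [he] at h3
    simpa [mul_assoc] using h3.symm
  have hstarM : ∀ {w : G} {k : ℕ}, w ∈ M → w ^ 2 ^ k = 1 → w ∉ center G → w * w ∈ center G →
      ∀ c, c * w * c⁻¹ * w⁻¹ ∈ center G → c ∈ M := by
    intro w k hwM hw hwZ hw2 c hcw
    obtain ⟨n, hn, hwn, hnz⟩ := hpart hwM hw hwZ hw2
    have hy' : Commute (c * y * c⁻¹) w := commute_conj_of_star hcw (hmem.1 hwM).symm
    have he : Commute (c * n * c⁻¹ * n⁻¹) w := by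
      have h := starHom_eq_one (w := w) (g := ⟨c, mem_star.2 hcw⟩ * ⟨n, mem_star.2 hnz⟩ *
        (⟨c, mem_star.2 hcw⟩ : star w)⁻¹ * (⟨n, mem_star.2 hnz⟩ : star w)⁻¹)
      refine h.1 ?_
      rw [map_mul, map_mul, map_mul, map_inv, map_inv]
      refine Subtype.ext ?_
      have h' := mem_center_iff.1 (starHom w ⟨n, mem_star.2 hnz⟩).2 ((starHom w ⟨c, mem_star.2 hcw⟩ : center G) : G)
      simp only [coe_mul, coe_inv, coe_one]
      rw [h']; group
    have h1 : Commute (c * y * c⁻¹) (c * n * c⁻¹ * n⁻¹) :=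
      commute_of_involution hG hns T hT' hw hwZ hw2 hy' he
    have h2 : Commute (c * y * c⁻¹) (c * n * c⁻¹) := (hmem.1 hn).symm.map (MulAut.conj c).toMonoidHom
    have h3 : Commute (c * y * c⁻¹) n := by
      have := h1.inv_right.mul_right h2
      rwa [show (c * n * c⁻¹ * n⁻¹)⁻¹ * (c * n * c⁻¹) = n by group] at this
    exact hfix (hcentM hwM hw hwZ hw2 _ hy') hwM hn hwn hy'.symm h3.symm rfl
  set π := QuotientGroup.mk' (center G) with hπ
  have hback : ∀ {g : G}, π g ∈ M.map π → g ∈ M := fun {g} hg => by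
    obtain ⟨m, hm, e⟩ := hg
    have h1 : m⁻¹ * g ∈ center G := (QuotientGroup.eq_one_iff _).1 (by
      show π (m⁻¹ * g) = 1
      rw [map_mul, map_inv, e, inv_mul_cancel])
    simpa using mul_mem hm (hZM h1)
  have hse : IsStronglyEmbedded (M.map π) := by
    refine Involution.isStronglyEmbedded_iff_forall.2 ⟨fun e => hMtop (eq_top_iff.2 fun g _ => hback (e ▸ mem_top _)),
      ?_, fun g t ht htM hgt => ?_⟩
    · obtain ⟨x, hx, hxZ, hx2, -⟩ := exists_second_center hG hns T hT'
      exact even_iff_two_dvd.2 ((orderOf_mk_two hxZ hx2).symm.dvd.trans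
        (Subgroup.orderOf_dvd_natCard _ (mem_map_of_mem π (hTM hx))))
    · obtain ⟨g, rfl⟩ := QuotientGroup.mk_surjective g
      obtain ⟨w, k, hw, hwZ, hw2, rfl⟩ := exists_lift ht
      have hwM : w ∈ M := hback htM
      have hw'M : g * w * g⁻¹ ∈ M := hback (show ((g * w * g⁻¹ : G) : G ⧸ center G) ∈ M.map π from hgt)
      refine mem_map_of_mem π ?_
      obtain ⟨n, hn, hwn, hnz⟩ := hpart hwM hw hwZ hw2
      have hZ : ∀ {c : G}, c ∈ center G → g * c * g⁻¹ ∈ center G := fun {c} hc =>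
        (inferInstance : (center G).Normal).conj_mem c hc g
      have hw'Z : g * w * g⁻¹ ∉ center G := fun e => hwZ (by
        simpa [mul_assoc] using (inferInstance : (center G).Normal).conj_mem _ e g⁻¹)
      have hn' : g * n * g⁻¹ ∈ M := hstarM hw'M (k := k) (by rw [conj_pow, hw, mul_one, mul_inv_cancel]) hw'Z
        (by rw [show g * w * g⁻¹ * (g * w * g⁻¹) = g * (w * w) * g⁻¹ by group]; exact hZ hw2) _
        (by
          have := hZ hnz
          rwa [show g * (n * w * n⁻¹ * w⁻¹) * g⁻¹ =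
            g * n * g⁻¹ * (g * w * g⁻¹) * (g * n * g⁻¹)⁻¹ * (g * w * g⁻¹)⁻¹ by group] at this)
      have hy'' : ∀ {c : G}, g * c * g⁻¹ ∈ M → Commute c (g⁻¹ * y * g) := fun {c} h => by
        have := (hmem.1 h).map (MulAut.conj g⁻¹).toMonoidHom
        simpa [mul_assoc] using this
      exact inv_inv g ▸ inv_mem (hfix (g := g⁻¹) (hcentM hwM hw hwZ hw2 _ (hy'' hw'M).symm) hwM hn hwn (hy'' hw'M)
        (hy'' hn') (by group))
  have hcore := S1221.result (M.map π) hse
  rw [oddCore_quotient hG hns, le_bot_iff, map_eq_bot_iff_of_injective _ (subtype_injective _)] at hcore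
  set yb : M.map π := ⟨π y, mem_map_of_mem π (hmem.2 (Commute.refl y))⟩
  have hyc : yb ∈ center (M.map π) := mem_center_iff.2 fun ⟨_, m, hm, rfl⟩ => Subtype.ext (by
    show π m * π y = π y * π m
    rw [← map_mul, ← map_mul, (hmem.1 hm).eq])
  have hn : (zpowers yb).Normal := ⟨fun x hx g => by
    have hxc : x ∈ center (M.map π) := zpowers_le.2 hyc hx
    rwa [mem_center_iff.1 hxc g, mul_inv_cancel_right]⟩
  have hle : zpowers yb ≤ pPrimeCore 2 (M.map π) := Cores.le_pPrimeCore hn (Nat.coprime_two_right.2 (by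
    rw [Nat.card_zpowers, Subgroup.orderOf_mk]
    exact hy.of_dvd_nat (orderOf_map_dvd π y)))
  have h1 : yb = 1 := by
    have := hle (mem_zpowers yb)
    rwa [show pPrimeCore 2 (M.map π) = ⊥ from hcore, mem_bot] at this
  exact hyZ ((QuotientGroup.eq_one_iff y).1 (congrArg Subtype.val h1))

end Cfsg.Agent.MinNonCA
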